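import Mathlib
import Cfsg.Agent.H171.RV.TwoP
import Cfsg.Agent.Co2Type.Quad
import Cfsg.Agent.KFacts.SuzLarge
import Cfsg.Agent.SuzThree.CentCard
import Cfsg.Agent.KFacts.HN.Large
import Cfsg.Agent.KFacts.HN.PCard
import Cfsg.Agent.KFacts.J2.Facts
import Cfsg.Agent.KFacts.J3Sheet
import Cfsg.Agent.KFacts.J3
import Cfsg.Agent.CTwoTab.FiTF
import Cfsg.Agent.KFacts.FiTF.SheetF
import Cfsg.Agent.NotCT.Orders

/-!
# TEAM RV, R6: `ZT` (unique central involution of the Sylow 2-subgroup), first rows (helper171)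

`J2`, `J3`, `Suz`, `HN`, `Fi24'`.
-/

set_option autoImplicit false

namespace Cfsg.Agent.H171.RV.TwoP

open Cfsg Cfsg.Spor Subgroup

universe u v

theorem ZT.congr {S : Type u} {S' : Type v} [Group S] [Group S'] (e : S ≃* S') {M : ℕ} (h : ZT S M) : ZT S' M := by
  obtain ⟨T, z, hT, hi, hz, h1, hzz, hc, hu, hM⟩ := h
  refine ⟨T.map e.toMonoidHom, e z, hT.map _, ?_, ⟨z, hz, rfl⟩, ?_, ?_, ?_, ?_, ?_⟩
  · rwa [Subgroup.index_map_of_bijective e.bijective]
  · exact fun h => h1 (e.injective (h.trans (map_one e).symm))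
  · rw [← map_mul, hzz, map_one]
  · rintro _ ⟨t, ht, rfl⟩
    show e t * e z = e z * e t
    rw [← map_mul, hc t ht, map_mul]
  · rintro _ ⟨w, hw, rfl⟩ hww hwc
    have h3 : w * w = 1 := e.injective (by rw [map_mul, map_one]; exact hww)
    rcases hu w hw h3 (fun t ht => e.injective (by rw [map_mul, map_mul]; exact hwc (e t) ⟨t, ht, rfl⟩)) with h | h
    · left; show e w = 1; rw [h, map_one]
    · right; show e w = e z; rw [h]
  · refine dvd_trans (dvd_of_eq ?_) hM
    have h4 : (centralizer ({z} : Set S)).map e.toMonoidHom = centralizer ({e z} : Set S') := by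
      ext x
      rw [mem_centralizer_singleton_iff]
      constructor
      · rintro ⟨y, hy, rfl⟩
        have h5 := mem_centralizer_singleton_iff.1 hy
        show e y * e z = e z * e y
        rw [← map_mul, h5, map_mul]
      · intro hx
        obtain ⟨y, rfl⟩ := e.surjective x
        refine ⟨y, mem_centralizer_singleton_iff.2 (e.injective ?_), rfl⟩
        rw [map_mul, map_mul]
        exact hx
    rw [← h4]
    exact (Nat.card_congr ((centralizer ({z} : Set S)).equivMapOfInjective e.toMonoidHom e.injective).toEquiv).symm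

open Cfsg.Agent.Co2Type.Quad in
theorem zt_of_large {G : Type u} [Group G] [Finite G] {Q : Subgroup G} {z : G} (h : Large Q z) {M : ℕ}
    (hM : Nat.card (centralizer ({z} : Set G)) ∣ M) : ZT G M := by
  have hQ : IsPGroup 2 Q := by
    intro x
    refine ⟨2, Subtype.ext ?_⟩
    show (x : G) ^ (2 ^ 2) = 1
    have e : (x : G) ^ (2 ^ 2) = ((x : G) * x) * ((x : G) * x) := by simp only [show (2:ℕ)^2 = 4 from rfl, pow_succ, pow_zero, one_mul, mul_assoc]
    rcases h.sq x x.2 with h1 | h1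
    · rw [e, h1, one_mul]
    · rw [e, h1, h.z_sq]
  refine zt_of_cent hQ h.z_ne h.z_sq ?_ hM
  intro x _ hx
  refine h.cent x (h.self x (hx z h.z_mem).symm fun y hy => (hx y hy).symm) fun y hy => (hx y hy).symm

theorem zt_suz {S : Type u} [Group S] (h : Spor.IsoSuz S) : ZT S 3317760 := by
  obtain ⟨e⟩ := h
  have hf : Finite Spor.Suz := Nat.finite_of_card_ne_zero (by
    rw [NotCT.Orders.suz ⟨MulEquiv.refl _⟩]; norm_num)
  exact ZT.congr e.symm (zt_of_large KFacts.SuzLarge.large (dvd_of_eq SuzThree.CentCard.card_C1))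

theorem zt_hn {S : Type u} [Group S] (h : Spor.IsoHN S) : ZT S 3686400 := by
  obtain ⟨e⟩ := h
  have hf : Finite Spor.HN := Nat.finite_of_card_ne_zero (by
    rw [NotCT.Orders.hn ⟨MulEquiv.refl _⟩]; norm_num)
  exact ZT.congr e.symm (zt_of_large KFacts.HN.large (dvd_of_eq KFacts.HN.PCard.card_centralizer))

theorem zt_j2 {S : Type u} [Group S] [Finite S] (h : Spor.IsoJ2 S) : ZT S 1920 := by
  obtain ⟨t, u, Q, v, ρ, D⟩ := KFacts.J2.Facts.exists_dat_of h
  have hc : Nat.card (centralizer ({t} : Set S)) = 1920 := D.cardC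
  exact zt_of_large (KFacts.J3Sheet.large hc D.M) (dvd_of_eq hc)

theorem zt_j3 {S : Type u} [Group S] [Finite S] (h : Spor.IsoJ3 S) : ZT S 1920 := by
  obtain ⟨-, z, Q, v, ρ, n, u, F⟩ := KFacts.J3.exists_facts h
  exact zt_of_large (KFacts.J3Sheet.large F.card_C F.model) (dvd_of_eq F.card_C)

open Cfsg.Agent.CTwoTab.FiTF in
theorem card_z0 : Nat.card (centralizer ({z0} : Set Spor.Fi24')) = 160526499840 := by
  have := Cfsg.Agent.R08.FiTwentyFour.finite_Fi24
  have h2 := KFacts.FiTF.Abs.card_CK KFacts.FiTF.frame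
  rw [KFacts.FiTF.Order.card] at h2
  change Nat.card (centralizer ({z0} : Set Spor.Fi24')) * 2 = _ at h2
  omega

open Cfsg.Agent.CTwoTab.FiTF in
theorem zt_fi24' {S : Type u} [Group S] (h : Spor.IsoFi24' S) : ZT S 160526499840 := by
  obtain ⟨e⟩ := h
  have hf : Finite Spor.Fi24' := Nat.finite_of_card_ne_zero (by
    rw [NotCT.Orders.fi24 ⟨MulEquiv.refl _⟩]; norm_num)
  refine ZT.congr e.symm (zt_of_cent (z := z0) R0_p ?_ ?_ ?_ (dvd_of_eq card_z0))
  · exact fun h1 => KFacts.FiTF.frame.z1 (congrArg Subtype.val h1)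
  · exact Subtype.ext KFacts.FiTF.frame.zz
  · intro x _ hx
    exact R0_cent x fun r hr => (hx r hr).symm

end Cfsg.Agent.H171.RV.TwoP
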