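import Cfsg.Agent.H171.RV.SzHall
import Cfsg.Agent.H171.RV.FactsA
import Cfsg.Agent.H841.PiBS.NoTwo

/-!
# TEAM RV, R6: Hall `π`-subgroups with `3 ∉ π` are solvable (helper171)

* `sol_of` : `29120 ∤ |S|`;
* `sol_of_no27` : no Hall `{2,7}`-subgroup;
* `sol_suz`, `sol_fi22`.
-/

set_option autoImplicit false

namespace Cfsg.Agent.H171.RV.Sol

open Subgroup Cfsg Cfsg.Agent.H171.RV.SzHall Cfsg.Agent.H171.RV.TwoP

universe u

theorem szc_one {N : ℕ} (h22 : ¬ 2 ^ 22 ∣ N) (h2 : ¬ szc 2 ∣ N) (h3 : ¬ szc 3 ∣ N) (h4 : ¬ szc 4 ∣ N) :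
    ∀ m, 1 ≤ m → szc m ∣ N → m = 1 := by
  intro m hm hd
  have h5 : m < 5 := by
    by_contra hcon
    apply h22
    refine dvd_trans ?_ hd
    unfold szc
    refine Dvd.dvd.mul_right (Dvd.dvd.mul_right ?_ _) _
    rw [← pow_mul]
    exact pow_dvd_pow 2 (by omega)
  interval_cases m
  · rfl
  · exact absurd hd h2
  · exact absurd hd h3
  · exact absurd hd h4

section

variable {S : Type u} [Group S] [Finite S] {π : Set ℕ}

/-- `π`-subgroups, `3 ∉ π`, are solvable or nonsolvable with a Hall `{2,7}`-subgroup -/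
theorem sol_or {N : ℕ} (hc : Nat.card S = N) (hN : ∀ m, 1 ≤ m → szc m ∣ N → m = 1) (h13 : ¬ 13 * 13 ∣ N) (h3 : 3 ∉ π)
    {H : Subgroup S} (hH : IsPiHall π H) :
    Group.IsSolvable H ∨ (29120 ∣ Nat.card H ∧ ∃ K : Subgroup H, IsPiHall ({2, 7} : Set ℕ) K) := by
  have hd : Nat.card H ∣ N := by rw [← hc]; exact card_subgroup_dvd_card H
  exact SzHall.main (Nat.card H) H rfl (fun h => h3 (hH.1 3 Nat.prime_three h)) (fun m hm h => hN m hm (h.trans hd))
    (fun h => h13 (h.trans hd))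

/-- the case `29120 ∤ |S|` -/
theorem sol_of {N : ℕ} (hc : Nat.card S = N) (hN : ∀ m, 1 ≤ m → szc m ∣ N → m = 1) (h13 : ¬ 13 * 13 ∣ N)
    (hsz : ¬ 29120 ∣ N) (h3 : 3 ∉ π) (H : Subgroup S) (hH : IsPiHall π H) : Group.IsSolvable H := by
  rcases sol_or hc hN h13 h3 hH with h | ⟨h, -⟩
  · exact h
  · exact absurd (h.trans (by rw [← hc]; exact card_subgroup_dvd_card H)) hsz

/-- the case without Hall `{2,7}`-subgroups -/
theorem sol_of_no27 {N : ℕ} (hc : Nat.card S = N) (hN : ∀ m, 1 ≤ m → szc m ∣ N → m = 1) (h13 : ¬ 13 * 13 ∣ N)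
    (h27 : ∀ K : Subgroup S, ¬ IsPiHall ({2, 7} : Set ℕ) K) (h3 : 3 ∉ π) (H : Subgroup S) (hH : IsPiHall π H) :
    Group.IsSolvable H := by
  rcases sol_or hc hN h13 h3 hH with h | ⟨h, K, hK⟩
  · exact h
  · exfalso
    refine h27 (K.map H.subtype) (isPiHall_of hK fun p hp hπ => hH.2 p hp ?_)
    rcases hπ with rfl | h7
    · exact hH.1 2 Nat.prime_two ((by norm_num : 2 ∣ 29120).trans h)
    · rw [Set.mem_singleton_iff] at h7
      subst h7
      exact hH.1 7 (by norm_num) ((by norm_num : 7 ∣ 29120).trans h)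

/-- no Hall `{2,p}`-subgroup, from the unique central involution -/
theorem no_hall_of_zt {M : ℕ} (hZ : ZT S M) {p a b : ℕ} (hp : p.Prime) (hS : Nat.card S = 2 ^ a * p * b)
    (hc : chk p a = true) (h2b : ¬ 2 ∣ b) (hpb : ¬ p ∣ b) (hpM : ¬ p ∣ M) :
    ∀ K : Subgroup S, ¬ IsPiHall ({2, p} : Set ℕ) K := by
  intro H hH
  unfold chk at hc
  rw [Bool.and_eq_true, Bool.and_eq_true, Bool.and_eq_true, decide_eq_true_eq, decide_eq_true_eq,
    Bool.not_eq_true', decide_eq_false_iff_not, List.all_eq_true] at hc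
  obtain ⟨h1, h2, h3, h4⟩ := hc
  refine no_hall hZ hp (by omega) hS h2b hpb hpM h3 (fun j m i hj hm hi hma => ?_) H hH
  have hj5 : j < 5 := by
    by_contra hcon
    have h5 : 2 ^ 5 ∣ p - 1 := (pow_dvd_pow 2 (by omega)).trans hj
    have h6 := Nat.le_of_dvd (by omega) h5
    omega
  have hm17 : m < 17 := by
    have : 2 ^ j ≤ 2 ^ 4 := Nat.pow_le_pow_right (by norm_num) (by omega)
    omega
  have h5 := h4 j (List.mem_range.mpr hj5)
  rw [Bool.or_eq_true, Bool.not_eq_true', decide_eq_false_iff_not, List.all_eq_true] at h5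
  have h6 := h5.resolve_left (fun h => h hj) m (List.mem_range.mpr hm17)
  rw [Bool.or_eq_true, Bool.not_eq_true', decide_eq_false_iff_not, Bool.or_eq_true, Bool.not_eq_true',
    decide_eq_false_iff_not, List.all_eq_true] at h6
  have h7 := (h6.resolve_left (fun h => h hm)).resolve_left (fun h => h hma) i (List.mem_range.mpr hi)
  exact of_decide_eq_true h7

/-- **`Suz`** -/
theorem sol_suz (h : Spor.IsoSuz S) (h3 : 3 ∉ π) (H : Subgroup S) (hH : IsPiHall π H) : Group.IsSolvable H := by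
  refine sol_of_no27 (N := 448345497600) (NotCT.Orders.suz h) (szc_one (by norm_num) (by norm_num [szc])
    (by norm_num [szc]) (by norm_num [szc])) (by norm_num) ?_ h3 H hH
  exact no_hall_of_zt (a := 13) (b := 448345497600 / 2 ^ 13 / 7) (zt_suz h) (by norm_num)
    ((NotCT.Orders.suz h).trans (by norm_num)) (by decide +kernel) (by norm_num) (by norm_num) (by norm_num)

theorem isPiHall_map_equiv {S' : Type u} [Group S'] [Finite S'] (e : S ≃* S') {H : Subgroup S} (hH : IsPiHall π H) :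
    IsPiHall π (H.map e.toMonoidHom) := by
  refine ⟨fun p hp hd => hH.1 p hp ?_, fun p hp hπ hd => hH.2 p hp hπ ?_⟩
  · rwa [Subgroup.card_map_of_injective e.injective] at hd
  · rwa [Subgroup.index_map_of_bijective e.bijective] at hd

end

theorem isPiHall_map_equiv' {S : Type u} [Group S] [Finite S] {π : Set ℕ} {S' : Type*} [Group S'] (e : S ≃* S')
    {H : Subgroup S} (hH : IsPiHall π H) :
    (∀ p : ℕ, p.Prime → p ∣ Nat.card (H.map e.toMonoidHom) → p ∈ π) ∧
      ∀ p : ℕ, p.Prime → p ∈ π → ¬ p ∣ (H.map e.toMonoidHom).index := by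
  refine ⟨fun p hp hd => hH.1 p hp ?_, fun p hp hπ hd => hH.2 p hp hπ ?_⟩
  · rwa [Subgroup.card_map_of_injective e.injective] at hd
  · rwa [Subgroup.index_map_of_bijective e.bijective] at hd

/-- **`Fi22`** -/
theorem sol_fi22 {S : Type u} [Group S] [Finite S] {π : Set ℕ} (h : Spor.IsoFi22 S) (h3 : 3 ∉ π) (H : Subgroup S)
    (hH : IsPiHall π H) : Group.IsSolvable H := by
  refine sol_of_no27 (N := 64561751654400) (NotCT.Orders.fi22 h) (szc_one (by norm_num) (by norm_num [szc])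
    (by norm_num [szc]) (by norm_num [szc])) (by norm_num) ?_ h3 H hH
  intro K hK
  obtain ⟨e⟩ := h
  obtain ⟨h1, h2⟩ := isPiHall_map_equiv' e hK
  exact H841.PiBS.NoTwo.hall_fi22 (p := 7) (by norm_num) (by norm_num) (by norm_num)
    (h2 2 Nat.prime_two (Or.inl rfl)) (h2 7 (by norm_num) (Or.inr rfl)) h1

end Cfsg.Agent.H171.RV.Sol
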