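import Cfsg.Agent.H171.RV.Frame
import Cfsg.Agent.H171.RV.Sol
import Cfsg.Agent.H543.PiBS.Gen

/-!
# TEAM RV, R6: from the data to `RowE` (helper171)

* `dc_of_dom` : `Dom π S → DC π S`;
* `mem_primes` : the prime divisors of a number with given factorization;
* `rowE_of_data`.
-/

set_option autoImplicit false

namespace Cfsg.Agent.H171.RV.Asm

open Subgroup Cfsg Cfsg.Agent.H988.CPi Cfsg.Agent.H571.DExt Cfsg.Agent.H571.RV Cfsg.Agent.H171.RV

universe u

variable {S : Type u} [Group S] [Finite S] {π : Set ℕ}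

theorem dc_of_dom (h : Dom π S) : H543.PiBS.DC π S where
  d K hK := Dom.pi_le h K hK
  c := h.cpi.2

theorem mem_primes {p : ℕ} (hp : p.Prime) {N : ℕ} (h : p ∣ N) (L : List ℕ) (hL : ∀ q ∈ L, q.Prime) (k : ℕ)
    (hN : N ∣ L.prod ^ k) : p ∈ L := by
  have h1 : p ∣ L.prod := hp.dvd_of_dvd_pow (h.trans hN)
  obtain ⟨q, hq, hd⟩ := (Prime.dvd_prod_iff hp.prime).1 h1
  rwa [(Nat.prime_dvd_prime_iff_eq hp (hL q hq)).1 hd]

/-- **`RowE` from the data**: `|Out| ≤ 2` -/
theorem rowE_of_data (hs : IsSimpleGroup S) (hout : (MulAut.conj : S →* MulAut S).range.index ≤ 2)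
    (hna : ¬ IsMulCommutative S)
    (hsix : 2 ∈ π → 3 ∈ π → H543.PiBS.DC π S → H543.PiBS.PiGrp π S)
    (hsol : 3 ∉ π → ∀ H : Subgroup S, IsPiHall π H → Group.IsSolvable H)
    (no2 : ∀ p : ℕ, p.Prime → 5 ≤ p → p ∣ Nat.card S → ¬ Dom ({2, p} : Set ℕ) S) : RowE π S := by
  have hc : center S = ⊥ := by
    rcases hs.eq_bot_or_eq_top_of_normal (center S) inferInstance with h | h
    · exact h
    · refine absurd ⟨⟨fun a b => ?_⟩⟩ hna
      have ha : b ∈ center S := by rw [h]; exact mem_top _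
      exact mem_center_iff.1 ha a
  exact rowE_of_no2 hc hout (fun h2 h3 hD => hsix h2 h3 (dc_of_dom hD)) (fun _ h3 _ => hsol h3) no2

/-- **`RowE`**: `Out = 1` -/
theorem rowE_of_one (hs : IsSimpleGroup S) (hna : ¬ IsMulCommutative S)
    (hout : (MulAut.conj : S →* MulAut S).range.index = 1) : RowE π S := by
  have hc : center S = ⊥ := by
    rcases hs.eq_bot_or_eq_top_of_normal (center S) inferInstance with h | h
    · exact h
    · refine absurd ⟨⟨fun a b => ?_⟩⟩ hna
      have ha : b ∈ center S := by rw [h]; exact mem_top _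
      exact mem_center_iff.1 ha a
  exact rowE_of_inner hc hout

theorem not_comm {N : ℕ} (hc : Nat.card S = N) (hs : IsSimpleGroup S) (hN : ¬ N.Prime) : ¬ IsMulCommutative S := by
  intro hcom
  have h1 := (Group.is_simple_iff_prime_card (α := S)).1 hs
  rw [hc] at h1
  exact hN h1

end Cfsg.Agent.H171.RV.Asm
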