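import Cfsg.Agent.H171.RV.AsmTwo
import Cfsg.Agent.H555.PiBS.McL
import Cfsg.Agent.H555.RV.McL
import Cfsg.Agent.H768.RV.Fi24
import Cfsg.Agent.H768.RV.FacH
import Cfsg.Agent.H180.RV.Five
import Cfsg.Agent.H180.RV.Self
import Cfsg.Agent.H841.PiBS.HNRow

/-!
# TEAM RV, R6: `RowE` for `McL`, `HN`, `Fi24'` (helper171)
-/

set_option autoImplicit false

namespace Cfsg.Agent.H171.RV.Asm

open Cfsg Cfsg.Agent.H571.RV Cfsg.Agent.H571.DExt Cfsg.Agent.H171.RV.SzHall

universe u

variable {S : Type u} [Group S] [Finite S] [hs : IsSimpleGroup S] {π : Set ℕ}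

theorem rowE_mcl (h : Spor.IsoMcL S) : RowE π S := by
  have hc := NotCT.Orders.mcl h
  have hout : (MulAut.conj : S →* MulAut S).range.index ≤ 2 := by
    obtain ⟨e⟩ := h
    exact index_le e S2073.result
  refine rowE_of_data hs hout (not_comm hc hs (by norm_num)) (fun h2 h3 hD => H555.PiBS.McL.row_McL h h2 h3 hD)
    (fun h3 => Sol.sol_of hc (Sol.szc_one (by norm_num) (by norm_num [szc]) (by norm_num [szc]) (by norm_num [szc]))
      (by norm_num) (by norm_num) h3) ?_
  intro p hp h5 hpd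
  rw [hc] at hpd
  have hm := mem_primes hp hpd [2, 3, 5, 7, 11] (by norm_num) 21 (by norm_num)
  simp only [List.mem_cons, List.not_mem_nil, or_false] at hm
  rcases hm with rfl | rfl | rfl | rfl | rfl
  · omega
  · omega
  · exact H180.RV.no2_mcl_5 h
  · exact H555.RV.no2_mcl_7 h
  · exact H180.RV.no2_mcl_11 h

theorem rowE_hn (h : Spor.IsoHN S) : RowE π S := by
  have hc := NotCT.Orders.hn h
  have hout : (MulAut.conj : S →* MulAut S).range.index ≤ 2 := by
    obtain ⟨e⟩ := h
    exact index_le e S2082.result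
  refine rowE_of_data hs hout (not_comm hc hs (by norm_num)) (fun h2 h3 hD => H841.PiBS.HN.row_HN h h2 h3 hD)
    (fun h3 => Sol.sol_of hc (Sol.szc_one (by norm_num) (by norm_num [szc]) (by norm_num [szc]) (by norm_num [szc]))
      (by norm_num) (by norm_num) h3) ?_
  intro p hp h5 hpd
  rw [hc] at hpd
  have hm := mem_primes hp hpd [2, 3, 5, 7, 11, 19] (by norm_num) 21 (by norm_num)
  simp only [List.mem_cons, List.not_mem_nil, or_false] at hm
  rcases hm with rfl | rfl | rfl | rfl | rfl | rfl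
  · omega
  · omega
  · exact H180.RV.no2_hn_5 h
  · exact NoTwo.no2_hn_7 h
  · exact NoTwo.no2_hn_11 h
  · exact NoTwo.no2_hn_19 h

theorem rowE_fi24 (h : Spor.IsoFi24' S) : RowE π S := by
  have hc := NotCT.Orders.fi24 h
  have hout : (MulAut.conj : S →* MulAut S).range.index ≤ 2 := by
    obtain ⟨e⟩ := h
    exact index_le e S2081.result
  refine rowE_of_data hs hout (not_comm hc hs (by norm_num)) (fun h2 h3 hD => H841.PiBS.Rows.good_fi24 h2 h3 h hD)
    (fun h3 => Sol.sol_of_no27 hc (Sol.szc_one (by norm_num) (by norm_num [szc]) (by norm_num [szc]) (by norm_num [szc]))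
      (by norm_num) (fun K => H768.RV.no_hall_fi24 h (Or.inl rfl) K) h3) ?_
  exact fun p hp h5 hpd => H768.RV.FiTF.no2_fi24 h hp h5 hpd

end Cfsg.Agent.H171.RV.Asm
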