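import Cfsg.Agent.H171.RV.AsmBase
import Cfsg.Agent.H498.SporOut
import Cfsg.Agent.NotCT.Orders

/-!
# TEAM RV, R6: `RowE` for the sporadic groups without outer automorphisms (helper171)
-/

set_option autoImplicit false

namespace Cfsg.Agent.H171.RV.Asm

open Cfsg Cfsg.Agent.H571.RV

universe u

theorem index_one {X : Type u} {Y : Type*} [Group X] [Group Y] (e : X ≃* Y) (h : Nat.card (Out Y) = 1) :
    (MulAut.conj : X →* MulAut X).range.index = 1 :=
  (H498.SporOut.index_congr e).trans h

theorem rowE_m11 {S : Type u} [Group S] [Finite S] [hs : IsSimpleGroup S] {π : Set ℕ} (h : Spor.IsoM11 S) :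
    RowE π S := by
  have hc := NotCT.Orders.m11 h
  obtain ⟨e⟩ := h
  exact rowE_of_one hs (not_comm hc hs (by norm_num)) (index_one e S2060.result)

theorem rowE_m23 {S : Type u} [Group S] [Finite S] [hs : IsSimpleGroup S] {π : Set ℕ} (h : Spor.IsoM23 S) :
    RowE π S := by
  have hc := NotCT.Orders.m23 h
  obtain ⟨e⟩ := h
  exact rowE_of_one hs (not_comm hc hs (by norm_num)) (index_one e S2063.result)

theorem rowE_m24 {S : Type u} [Group S] [Finite S] [hs : IsSimpleGroup S] {π : Set ℕ} (h : Spor.IsoM24 S) :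
    RowE π S := by
  have hc := NotCT.Orders.m24 h
  obtain ⟨e⟩ := h
  exact rowE_of_one hs (not_comm hc hs (by norm_num)) (index_one e S2064.result)

theorem rowE_j1 {S : Type u} [Group S] [Finite S] [hs : IsSimpleGroup S] {π : Set ℕ} (h : Spor.IsoJ1 S) :
    RowE π S := by
  have hc := NotCT.Orders.j1 h
  obtain ⟨e⟩ := h
  exact rowE_of_one hs (not_comm hc hs (by norm_num)) (index_one e S2065.result)

theorem rowE_j4 {S : Type u} [Group S] [Finite S] [hs : IsSimpleGroup S] {π : Set ℕ} (h : Spor.IsoJ4 S) :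
    RowE π S := by
  have hc := NotCT.Orders.j4 h
  obtain ⟨e⟩ := h
  exact rowE_of_one hs (not_comm hc hs (by norm_num)) (index_one e S2068.result)

theorem rowE_co1 {S : Type u} [Group S] [Finite S] [hs : IsSimpleGroup S] {π : Set ℕ} (h : Spor.IsoCo1 S) :
    RowE π S := by
  have hc := NotCT.Orders.co1 h
  obtain ⟨e⟩ := h
  exact rowE_of_one hs (not_comm hc hs (by norm_num)) (index_one e S2069.result)

theorem rowE_co2 {S : Type u} [Group S] [Finite S] [hs : IsSimpleGroup S] {π : Set ℕ} (h : Spor.IsoCo2 S) :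
    RowE π S := by
  have hc := NotCT.Orders.co2 h
  obtain ⟨e⟩ := h
  exact rowE_of_one hs (not_comm hc hs (by norm_num)) (index_one e S2070.result)

theorem rowE_co3 {S : Type u} [Group S] [Finite S] [hs : IsSimpleGroup S] {π : Set ℕ} (h : Spor.IsoCo3 S) :
    RowE π S := by
  have hc := NotCT.Orders.co3 h
  obtain ⟨e⟩ := h
  exact rowE_of_one hs (not_comm hc hs (by norm_num)) (index_one e S2071.result)

theorem rowE_ru {S : Type u} [Group S] [Finite S] [hs : IsSimpleGroup S] {π : Set ℕ} (h : Spor.IsoRu S) :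
    RowE π S := by
  have hc := NotCT.Orders.ru h
  obtain ⟨e⟩ := h
  exact rowE_of_one hs (not_comm hc hs (by norm_num)) (index_one e S2077.result)

theorem rowE_ly {S : Type u} [Group S] [Finite S] [hs : IsSimpleGroup S] {π : Set ℕ} (h : Spor.IsoLy S) :
    RowE π S := by
  have hc := NotCT.Orders.ly h
  obtain ⟨e⟩ := h
  exact rowE_of_one hs (not_comm hc hs (by norm_num)) (index_one e S2076.result)

theorem rowE_fi23 {S : Type u} [Group S] [Finite S] [hs : IsSimpleGroup S] {π : Set ℕ} (h : Spor.IsoFi23 S) :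
    RowE π S := by
  have hc := NotCT.Orders.fi23 h
  obtain ⟨e⟩ := h
  exact rowE_of_one hs (not_comm hc hs (by norm_num)) (index_one e S2080.result)

theorem rowE_th {S : Type u} [Group S] [Finite S] [hs : IsSimpleGroup S] {π : Set ℕ} (h : Spor.IsoTh S) :
    RowE π S := by
  have hc := NotCT.Orders.th h
  obtain ⟨e⟩ := h
  exact rowE_of_one hs (not_comm hc hs (by norm_num)) (index_one e S2083.result)

theorem rowE_b {S : Type u} [Group S] [Finite S] [hs : IsSimpleGroup S] {π : Set ℕ} (h : Spor.IsoB S) :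
    RowE π S := by
  have hc := NotCT.Orders.b h
  obtain ⟨e⟩ := h
  exact rowE_of_one hs (not_comm hc hs (by norm_num)) (index_one e S2084.result)

theorem rowE_m {S : Type u} [Group S] [Finite S] [hs : IsSimpleGroup S] {π : Set ℕ} (h : Spor.IsoM S) :
    RowE π S := by
  have hc := NotCT.Orders.m h
  obtain ⟨e⟩ := h
  exact rowE_of_one hs (not_comm hc hs (by norm_num)) (index_one e S2085.result)

end Cfsg.Agent.H171.RV.Asm
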