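import Cfsg.Agent.H543.RV.Count
import Cfsg.Agent.H795.Odm.OdmRowM12
import Cfsg.Agent.H858.SidM22
import Cfsg.Agent.H495.Wf.J3
import Cfsg.Agent.H715.Fpr.J3
import Cfsg.Agent.H180.RV.Self
import Cfsg.Agent.H858.OdmRowM22

/-!
# TEAM RV, R6: `¬ Dom {2, 5}` for `M12`, `M22`, `J3` (helper171)
-/

set_option autoImplicit false

namespace Cfsg.Agent.H171.RV.NoTwo

open Cfsg Subgroup Cfsg.Agent.H571.DExt Cfsg.Agent.H555.RV

universe u

theorem m12_five : ¬ Dom ({2, 5} : Set ℕ) Spor.M12 := by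
  have hc : Nat.card Spor.M12 = 95040 := NotCT.Orders.m12 ⟨MulEquiv.refl _⟩
  have hfin : Finite Spor.M12 := Nat.finite_of_card_ne_zero (by rw [hc]; norm_num)
  have := Fact.mk (show Nat.Prime 5 by norm_num)
  obtain ⟨x, hx⟩ := exists_prime_orderOf_dvd_card' (G := Spor.M12) 5 (by rw [hc]; norm_num)
  have hN := (H217.Odm.norm_of_cent (r := 5) (n := 19008) (c := 2) (e := 4) (by norm_num) (by rw [hc]) (by norm_num) hx
    (by rw [H795.Odm.card_cent5 hx]) (by norm_num) (by norm_num)).1
  exact H543.RV.no2_of_count (a := 6) (b := 3) (c := 1) (m := 297) (n := 5) (P := zpowers x) (by norm_num) (by norm_num)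
    (by rw [hc]; norm_num) (by norm_num) (by norm_num) (by rw [Nat.card_zpowers, hx]; norm_num)
    (by rw [hN]; norm_num) (by norm_num) (by norm_num)

theorem m22_five : ¬ Dom ({2, 5} : Set ℕ) Spor.M22 := by
  have hc : Nat.card Spor.M22 = 443520 := NotCT.Orders.m22 ⟨MulEquiv.refl _⟩
  have hfin : Finite Spor.M22 := Nat.finite_of_card_ne_zero (by rw [hc]; norm_num)
  have := Fact.mk (show Nat.Prime 5 by norm_num)
  obtain ⟨x, hx⟩ := exists_prime_orderOf_dvd_card' (G := Spor.M22) 5 (by rw [hc]; norm_num)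
  have hN := H217.Odm.norm_of_self_cent (r := 5) (n := 88704) (by norm_num) (by rw [hc]) (by norm_num) hx
    (H858.SidM22.c5 x hx)
  exact H543.RV.no2_of_count (a := 7) (b := 2) (c := 1) (m := 693) (n := 5) (P := zpowers x) (by norm_num) (by norm_num)
    (by rw [hc]; norm_num) (by norm_num) (by norm_num) (by rw [Nat.card_zpowers, hx]; norm_num)
    (by rw [hN]; norm_num) (by norm_num) (by norm_num)

section J3

variable {K : Type u} [Group K] [Finite K]

/-- `y` of order 5, `c` of order 3 commuting with an involution, `x ^ 9 = 1`; all commute: `x ∈ ⟨c⟩` -/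
theorem j3_mem_zpowers (h : Spor.IsoJ3 K) {x y c t : K} (hx : x ^ 9 = 1) (hy : orderOf y = 5)
    (hc : orderOf c = 3) (ht : orderOf t = 2) (htc : t * c = c * t) (hxy : x * y = y * x) (hxc : x * c = c * x)
    (hyc : y * c = c * y) : x ∈ zpowers c := by
  obtain ⟨hcard, hM, hone, -⟩ := CpAutJThree.base h
  have memC : ∀ a : K, a ∈ centralizer ({c} : Set K) ↔ a * c = c * a := fun a => mem_centralizer_singleton_iff
  obtain ⟨c0, hc0, ⟨s, hs, hsc⟩, hc0c⟩ := CpAutJThree.exc h
  obtain ⟨g, hg⟩ := CpAutJThree.conj_three hM hone hc0 hc hs ht hsc htc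
  have hC : Nat.card ↥(centralizer ({c} : Set K)) = 1080 := by
    rw [← CpAutJThree.card_centralizer_conj g hg]; exact hc0c
  let d : centralizer ({c} : Set K) := ⟨c, (memC c).2 rfl⟩
  have hd3 : orderOf d = 3 := by rw [← hc]; exact orderOf_mk _ _
  have hdd : ∀ a : centralizer ({c} : Set K), a * d = d * a := fun a => Subtype.ext ((memC a).1 a.2)
  have hZn : (zpowers d).Normal := by
    constructor
    rintro n ⟨k, rfl⟩ g
    refine ⟨k, ?_⟩
    have h1 : Commute g d := hdd g
    have := h1.zpow_right k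
    show d ^ k = g * d ^ k * g⁻¹
    rw [this.eq]; group
  have hHD8 := J3Type.Extra.hd8_quotient d hd3 hdd (CpAutJThree.hD_of_model hM hc)
  have hq : Nat.card (↥(centralizer ({c} : Set K)) ⧸ zpowers d) = 360 := by
    have := card_eq_card_quotient_mul_card_subgroup (zpowers d)
    rw [hC, Nat.card_zpowers, hd3] at this
    omega
  have : Fact (Nat.Prime 2) := ⟨Nat.prime_two⟩
  obtain ⟨s', hs'⟩ := exists_prime_orderOf_dvd_card' (G := ↥(centralizer ({c} : Set K)) ⧸ zpowers d) 2
    (by rw [hq]; norm_num)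
  have hsim := J3Type.Extra.isSimple hHD8 hs'
  have hxC : x ∈ centralizer ({c} : Set K) := (memC x).2 hxc
  have hyC : y ∈ centralizer ({c} : Set K) := (memC y).2 hyc
  set π := QuotientGroup.mk' (zpowers d) with hπ
  have hker : ∀ a : centralizer ({c} : Set K), π a = 1 ↔ a ∈ zpowers d := fun a => QuotientGroup.eq_one_iff a
  have hy5 : orderOf (π ⟨y, hyC⟩) = 5 := by
    have h5 : Fact (Nat.Prime 5) := ⟨by norm_num⟩
    refine orderOf_eq_prime ?_ ?_
    · rw [← map_pow]
      have : (⟨y, hyC⟩ : centralizer ({c} : Set K)) ^ 5 = 1 := by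
        apply Subtype.ext
        show y ^ 5 = 1
        rw [← hy, pow_orderOf_eq_one]
      rw [this, map_one]
    · intro h1
      have h2 := (hker _).1 h1
      have h3 : orderOf (⟨y, hyC⟩ : centralizer ({c} : Set K)) ∣ 3 := by
        have h4 := orderOf_dvd_natCard (⟨_, h2⟩ : ↥(zpowers d))
        rw [Subgroup.orderOf_mk, Nat.card_zpowers, hd3] at h4
        exact h4
      rw [Subgroup.orderOf_mk, hy] at h3
      omega
  have h1 : π ⟨x, hxC⟩ * π ⟨y, hyC⟩ = π ⟨y, hyC⟩ * π ⟨x, hxC⟩ := by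
    rw [← map_mul, ← map_mul]
    exact congrArg π (Subtype.ext hxy)
  have h2 := H495.Wf.pow_five hq hy5 h1
  have h3 : π ⟨x, hxC⟩ ^ 9 = 1 := by
    rw [← map_pow]
    have : (⟨x, hxC⟩ : centralizer ({c} : Set K)) ^ 9 = 1 := Subtype.ext hx
    rw [this, map_one]
  have h4 : π ⟨x, hxC⟩ = 1 := by
    have := pow_gcd_eq_one.mpr ⟨h2, h3⟩
    simpa using this
  obtain ⟨k, hk⟩ := (hker _).1 h4
  exact ⟨k, by
    have := congrArg Subtype.val hk
    simpa [d] using this⟩

theorem j3_not_nine (h : Spor.IsoJ3 K) {y : K} (hy : orderOf y = 5) :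
    ¬ 9 ∣ Nat.card (centralizer ({y} : Set K)) := by
  intro h9
  have h3 : Fact (Nat.Prime 3) := ⟨Nat.prime_three⟩
  obtain ⟨P, hP⟩ := Sylow.exists_subgroup_card_pow_prime (G := centralizer ({y} : Set K)) 3 (n := 2) h9
  have hcom : ∀ a b : P, a * b = b * a := (IsPGroup.isMulCommutative_of_card_eq_prime_sq hP).is_comm.comm
  obtain ⟨c, hc⟩ := exists_prime_orderOf_dvd_card' (G := P) 3 (by rw [hP]; norm_num)
  have hc3 : orderOf (((c : P) : centralizer ({y} : Set K)) : K) = 3 := by
    rw [Subgroup.orderOf_coe, Subgroup.orderOf_coe, hc]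
  have memY : ∀ a : centralizer ({y} : Set K), (a : K) * y = y * a := fun a => mem_centralizer_singleton_iff.1 a.2
  obtain ⟨t, ht, htc⟩ := H495.Wf.exists_inv_of_five h hc3 hy (memY c)
  have hle : ∀ a : P, a ∈ zpowers c := by
    intro a
    have h1 : (((a : P) : centralizer ({y} : Set K)) : K) ∈
        zpowers (((c : P) : centralizer ({y} : Set K)) : K) := by
      refine j3_mem_zpowers h ?_ hy hc3 ht htc (memY a) ?_ (memY c).symm
      · have h2 : a ^ 9 = 1 := by
          have h3 := pow_card_eq_one' (x := a)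
          rwa [hP] at h3
        have h3 := congrArg (fun b : P => ((b : centralizer ({y} : Set K)) : K)) h2
        simpa using h3
      · have h2 := congrArg (fun b : P => ((b : centralizer ({y} : Set K)) : K)) (hcom a c)
        simpa using h2
    obtain ⟨k, hk⟩ := h1
    refine ⟨k, Subtype.ext (Subtype.ext ?_)⟩
    simpa using hk
  have h1 : (⊤ : Subgroup P) ≤ zpowers c := fun a _ => hle a
  have h2 := Subgroup.card_le_of_le h1
  rw [card_top, hP, Nat.card_zpowers, hc] at h2
  norm_num at h2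

end J3

theorem j3_five {G : Type} [Group G] (h : Spor.IsoJ3 G) : ¬ Dom ({2, 5} : Set ℕ) G := by
  have hc : Nat.card G = 50232960 := NotCT.Orders.j3 h
  have hfin : Finite G := Nat.finite_of_card_ne_zero (by rw [hc]; norm_num)
  have := Fact.mk (show Nat.Prime 5 by norm_num)
  obtain ⟨x, hx⟩ := exists_prime_orderOf_dvd_card' (G := G) 5 (by rw [hc]; norm_num)
  have hP : Nat.card (zpowers x) = 5 := by rw [Nat.card_zpowers, hx]
  have h9 := j3_not_nine h hx
  have hN : Nat.card (normalizer ((zpowers x : Subgroup G) : Set G)) = 60 := by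
    have h1 := H715.Fpr.J3.cn5 h hP
    rw [show centralizer ((zpowers x : Subgroup G) : Set G) = centralizer ({x} : Set G) from
      H858.OdmRowM22.cent_zpowers x] at h1
    rcases h1 with h1 | h1 | h1
    · exact h1.2
    · exact absurd (by rw [h1.1]; norm_num) h9
    · exact absurd (by rw [h1.1]; norm_num) h9
  exact H543.RV.no2_of_count (a := 7) (b := 2) (c := 1) (m := 78489) (n := 15) (P := zpowers x) (by norm_num)
    (by norm_num) (by rw [hc]; norm_num) (by norm_num) (by norm_num) (by rw [hP]; norm_num)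
    (by rw [hN]; norm_num) (by norm_num) (by norm_num)

variable {S : Type u} [Group S] [Finite S]

theorem no2_m12_5 (h : Spor.IsoM12 S) : ¬ Dom ({2, 5} : Set ℕ) S := by
  obtain ⟨e⟩ := h
  exact fun hD => m12_five (dom_equiv e hD)

theorem no2_m22_5 (h : Spor.IsoM22 S) : ¬ Dom ({2, 5} : Set ℕ) S := by
  obtain ⟨e⟩ := h
  exact fun hD => m22_five (dom_equiv e hD)

theorem no2_j3_5 (h : Spor.IsoJ3 S) : ¬ Dom ({2, 5} : Set ℕ) S := by
  obtain ⟨F, _, _, ω, hF, hω, ⟨e⟩⟩ := h
  exact fun hD => j3_five ⟨F, inferInstance, inferInstance, ω, hF, hω, ⟨MulEquiv.refl _⟩⟩ (dom_equiv e hD)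

end Cfsg.Agent.H171.RV.NoTwo
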