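import Cfsg.Agent.H841.PiBS.NoTwo

/-!
# TEAM RV, R6: `¬ Dom {2, p}` for `M22`, `p = 7, 11` (helper171), from helper841's `hall_m22`
-/

set_option autoImplicit false

namespace Cfsg.Agent.H171.RV.NoTwo

open Cfsg Subgroup
open Cfsg.Agent.H841.PiBS Cfsg.Agent.H836.Thompson

universe u

theorem no2_m22 {S : Type u} [Group S] [Finite S] (h : Spor.IsoM22 S) {p : ℕ} (hp : p.Prime) (h7 : p = 7 ∨ p = 11) :
    ¬ Cfsg.Agent.H571.DExt.Dom ({2, p} : Set ℕ) S := by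
  rintro ⟨L, hL, -⟩
  obtain ⟨e⟩ := h
  have hi : (L.map e.toMonoidHom).index = L.index := index_map_equiv L e
  refine H841.PiBS.NoTwo.hall_m22 h7 (M := L.map e.toMonoidHom) (isPi_map hL.1 _) ?_ ?_
  · rw [hi]
    exact hL.2 2 Nat.prime_two (Or.inl rfl)
  · rw [hi]
    exact hL.2 p hp (Or.inr rfl)

theorem no2_m22_7 {S : Type u} [Group S] [Finite S] (h : Spor.IsoM22 S) :
    ¬ Cfsg.Agent.H571.DExt.Dom ({2, 7} : Set ℕ) S :=
  no2_m22 h (by norm_num) (Or.inl rfl)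

theorem no2_m22_11 {S : Type u} [Group S] [Finite S] (h : Spor.IsoM22 S) :
    ¬ Cfsg.Agent.H571.DExt.Dom ({2, 11} : Set ℕ) S :=
  no2_m22 h (by norm_num) (Or.inr rfl)

end Cfsg.Agent.H171.RV.NoTwo
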