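import Cfsg.Agent.H171.RV.AsmTwo
import Cfsg.Agent.H171.RV.NoTwoD
import Cfsg.Agent.H543.PiBS.M11
import Cfsg.Agent.H180.RV.Self
import Cfsg.Agent.H171.RV.MJ

/-!
# TEAM RV, R6: `RowE` for `M12`, `M22`, `J3` (helper171)
-/

set_option autoImplicit false

namespace Cfsg.Agent.H171.RV.Asm

open Cfsg Cfsg.Agent.H571.RV Cfsg.Agent.H571.DExt Cfsg.Agent.H171.RV.SzHall

universe u

variable {S : Type u} [Group S] [Finite S] [hs : IsSimpleGroup S] {π : Set ℕ}

theorem rowE_m12 (h : Spor.IsoM12 S) : RowE π S := by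
  have hc := NotCT.Orders.m12 h
  have hout : (MulAut.conj : S →* MulAut S).range.index ≤ 2 := by
    obtain ⟨e⟩ := h
    exact index_le e S2061.result
  refine rowE_of_data hs hout (not_comm hc hs (by norm_num)) (fun h2 h3 hD => H543.PiBS.row_M12 h h2 h3 hD)
    (fun h3 => Sol.sol_of hc (Sol.szc_one (by norm_num) (by norm_num [szc]) (by norm_num [szc]) (by norm_num [szc]))
      (by norm_num) (by norm_num) h3) ?_
  intro p hp h5 hpd
  rw [hc] at hpd
  have hm := mem_primes hp hpd [2, 3, 5, 11] (by norm_num) 21 (by norm_num)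
  simp only [List.mem_cons, List.not_mem_nil, or_false] at hm
  rcases hm with rfl | rfl | rfl | rfl
  · omega
  · omega
  · exact NoTwo.no2_m12_5 h
  · exact H180.RV.no2_m12_11 h

theorem rowE_m22 (h : Spor.IsoM22 S) : RowE π S := by
  have hc := NotCT.Orders.m22 h
  have hout : (MulAut.conj : S →* MulAut S).range.index ≤ 2 := by
    obtain ⟨e⟩ := h
    exact index_le e S2062.result
  refine rowE_of_data hs hout (not_comm hc hs (by norm_num)) (fun h2 h3 hD => H841.PiBS.Rows.good_m22 h2 h3 h hD)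
    (fun h3 => Sol.sol_of hc (Sol.szc_one (by norm_num) (by norm_num [szc]) (by norm_num [szc]) (by norm_num [szc]))
      (by norm_num) (by norm_num) h3) ?_
  intro p hp h5 hpd
  rw [hc] at hpd
  have hm := mem_primes hp hpd [2, 3, 5, 7, 11] (by norm_num) 21 (by norm_num)
  simp only [List.mem_cons, List.not_mem_nil, or_false] at hm
  rcases hm with rfl | rfl | rfl | rfl | rfl
  · omega
  · omega
  · exact NoTwo.no2_m22_5 h
  · exact NoTwo.no2_m22_7 h
  · exact NoTwo.no2_m22_11 h

theorem rowE_j3 (h : Spor.IsoJ3 S) : RowE π S := by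
  have hc := NotCT.Orders.j3 h
  have hout : (MulAut.conj : S →* MulAut S).range.index ≤ 2 := by
    obtain ⟨F, i1, i2, ω, hF, hω, ⟨e⟩⟩ := h
    exact index_le e (S2067.result hF ω hω)
  refine rowE_of_data hs hout (not_comm hc hs (by norm_num)) (fun h2 h3 hD => H982.PiJ.row_J3 h h2 h3 hD)
    (fun h3 => Sol.sol_of hc (Sol.szc_one (by norm_num) (by norm_num [szc]) (by norm_num [szc]) (by norm_num [szc]))
      (by norm_num) (by norm_num) h3) ?_
  intro p hp h5 hpd
  rw [hc] at hpd
  have hm := mem_primes hp hpd [2, 3, 5, 17, 19] (by norm_num) 21 (by norm_num)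
  simp only [List.mem_cons, List.not_mem_nil, or_false] at hm
  rcases hm with rfl | rfl | rfl | rfl | rfl
  · omega
  · omega
  · exact NoTwo.no2_j3_5 h
  · exact NoTwo.no2_j3_17 h
  · exact NoTwo.no2_j3_19 h

end Cfsg.Agent.H171.RV.Asm
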