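import Cfsg.Agent.H171.RV.FactsA

/-!
# TEAM RV, R6: no `D_{2,p}`, first rows (helper171)
-/

set_option autoImplicit false

namespace Cfsg.Agent.H171.RV.NoTwo

open Cfsg TwoP

universe u

theorem no2_j2_7 {S : Type u} [Group S] [Finite S] (h : Spor.IsoJ2 S) :
    ¬ H571.DExt.Dom ({2, 7} : Set ℕ) S :=
  no2_of_zt (a := 7) (b := 675) (zt_j2 h) (by norm_num) ((NotCT.Orders.j2 h).trans (by norm_num))
    (by decide +kernel) (by norm_num) (by norm_num) (by norm_num)

theorem no2_j3_17 {S : Type u} [Group S] [Finite S] (h : Spor.IsoJ3 S) :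
    ¬ H571.DExt.Dom ({2, 17} : Set ℕ) S :=
  no2_of_zt (a := 7) (b := 23085) (zt_j3 h) (by norm_num) ((NotCT.Orders.j3 h).trans (by norm_num))
    (by decide +kernel) (by norm_num) (by norm_num) (by norm_num)

theorem no2_j3_19 {S : Type u} [Group S] [Finite S] (h : Spor.IsoJ3 S) :
    ¬ H571.DExt.Dom ({2, 19} : Set ℕ) S :=
  no2_of_zt (a := 7) (b := 20655) (zt_j3 h) (by norm_num) ((NotCT.Orders.j3 h).trans (by norm_num))
    (by decide +kernel) (by norm_num) (by norm_num) (by norm_num)

theorem no2_suz_7 {S : Type u} [Group S] [Finite S] (h : Spor.IsoSuz S) :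
    ¬ H571.DExt.Dom ({2, 7} : Set ℕ) S :=
  no2_of_zt (a := 13) (b := 7818525) (zt_suz h) (by norm_num) ((NotCT.Orders.suz h).trans (by norm_num))
    (by decide +kernel) (by norm_num) (by norm_num) (by norm_num)

theorem no2_suz_11 {S : Type u} [Group S] [Finite S] (h : Spor.IsoSuz S) :
    ¬ H571.DExt.Dom ({2, 11} : Set ℕ) S :=
  no2_of_zt (a := 13) (b := 4975425) (zt_suz h) (by norm_num) ((NotCT.Orders.suz h).trans (by norm_num))
    (by decide +kernel) (by norm_num) (by norm_num) (by norm_num)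

theorem no2_suz_13 {S : Type u} [Group S] [Finite S] (h : Spor.IsoSuz S) :
    ¬ H571.DExt.Dom ({2, 13} : Set ℕ) S :=
  no2_of_zt (a := 13) (b := 4209975) (zt_suz h) (by norm_num) ((NotCT.Orders.suz h).trans (by norm_num))
    (by decide +kernel) (by norm_num) (by norm_num) (by norm_num)

theorem no2_hn_7 {S : Type u} [Group S] [Finite S] (h : Spor.IsoHN S) :
    ¬ H571.DExt.Dom ({2, 7} : Set ℕ) S :=
  no2_of_zt (a := 14) (b := 2380640625) (zt_hn h) (by norm_num) ((NotCT.Orders.hn h).trans (by norm_num))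
    (by decide +kernel) (by norm_num) (by norm_num) (by norm_num)

theorem no2_hn_11 {S : Type u} [Group S] [Finite S] (h : Spor.IsoHN S) :
    ¬ H571.DExt.Dom ({2, 11} : Set ℕ) S :=
  no2_of_zt (a := 14) (b := 1514953125) (zt_hn h) (by norm_num) ((NotCT.Orders.hn h).trans (by norm_num))
    (by decide +kernel) (by norm_num) (by norm_num) (by norm_num)

theorem no2_hn_19 {S : Type u} [Group S] [Finite S] (h : Spor.IsoHN S) :
    ¬ H571.DExt.Dom ({2, 19} : Set ℕ) S :=
  no2_of_zt (a := 14) (b := 877078125) (zt_hn h) (by norm_num) ((NotCT.Orders.hn h).trans (by norm_num))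
    (by decide +kernel) (by norm_num) (by norm_num) (by norm_num)

theorem no2_fi24_11 {S : Type u} [Group S] [Finite S] (h : Spor.IsoFi24' S) :
    ¬ H571.DExt.Dom ({2, 11} : Set ℕ) S :=
  no2_of_zt (a := 21) (b := 54411702120983025) (zt_fi24' h) (by norm_num) ((NotCT.Orders.fi24 h).trans (by norm_num))
    (by decide +kernel) (by norm_num) (by norm_num) (by norm_num)

theorem no2_fi24_13 {S : Type u} [Group S] [Finite S] (h : Spor.IsoFi24' S) :
    ¬ H571.DExt.Dom ({2, 13} : Set ℕ) S :=
  no2_of_zt (a := 21) (b := 46040671025447175) (zt_fi24' h) (by norm_num) ((NotCT.Orders.fi24 h).trans (by norm_num))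
    (by decide +kernel) (by norm_num) (by norm_num) (by norm_num)

theorem no2_fi24_23 {S : Type u} [Group S] [Finite S] (h : Spor.IsoFi24' S) :
    ¬ H571.DExt.Dom ({2, 23} : Set ℕ) S :=
  no2_of_zt (a := 21) (b := 26022987970904925) (zt_fi24' h) (by norm_num) ((NotCT.Orders.fi24 h).trans (by norm_num))
    (by decide +kernel) (by norm_num) (by norm_num) (by norm_num)

theorem no2_fi24_29 {S : Type u} [Group S] [Finite S] (h : Spor.IsoFi24' S) :
    ¬ H571.DExt.Dom ({2, 29} : Set ℕ) S :=
  no2_of_zt (a := 21) (b := 20638921494165975) (zt_fi24' h) (by norm_num) ((NotCT.Orders.fi24 h).trans (by norm_num))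
    (by decide +kernel) (by norm_num) (by norm_num) (by norm_num)

end Cfsg.Agent.H171.RV.NoTwo
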