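import Cfsg.Agent.H171.RV.FactsA
import Cfsg.Agent.TitsK.SheetT
import Cfsg.Agent.TitsK.Inst
import Cfsg.Agent.H369.Ti.Facts

/-!
# TEAM RV, R6: `ZT` (unique central involution of the Sylow 2-subgroup), row of the Tits group (helper171)
-/

set_option autoImplicit false

namespace Cfsg.Agent.H171.RV.TwoP

open Cfsg Subgroup Cfsg.Agent.TitsK

universe u

theorem zt_tdata {G : Type u} [Group G] [Finite G] (D : TData G) :
    ∃ z : ↥D.T, z ≠ 1 ∧ z * z = 1 ∧ ZT ↥D.T (Nat.card (centralizer ({z} : Set ↥D.T))) := by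
  have hzT : D.z ∈ D.T := D.V_le_T D.z_mem_V
  have h1 : (⟨D.z, hzT⟩ : ↥D.T) ≠ 1 := fun h => D.z_ne (congrArg Subtype.val h)
  have h2 : (⟨D.z, hzT⟩ : ↥D.T) * ⟨D.z, hzT⟩ = 1 := Subtype.ext D.z_sq
  refine ⟨⟨D.z, hzT⟩, h1, h2, ?_⟩
  refine ⟨(D.U ⊓ D.T).subgroupOf D.T, ⟨D.z, hzT⟩, ?_, D.odd_S, ?_, h1, h2, ?_, ?_, dvd_refl _⟩
  · exact (D.isPGroup_U.to_le inf_le_left).comap_subtype
  · exact mem_subgroupOf.2 (mem_inf.2 ⟨D.V_le_U D.z_mem_V, hzT⟩)
  · intro t ht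
    have h3 := D.z_central t (mem_inf.1 (mem_subgroupOf.1 ht)).1
    apply Subtype.ext
    show (t : G) * D.z = D.z * t
    rw [mul_inv_eq_iff_eq_mul] at h3
    exact h3
  · intro w hw _ hc
    rcases D.cent_S w (mem_inf.1 (mem_subgroupOf.1 hw)).1 (fun c hc' => by
      have h3 := hc ⟨c, (mem_inf.1 hc').2⟩ (mem_subgroupOf.2 hc')
      exact (congrArg Subtype.val h3).symm) with h | h
    · exact Or.inl (Subtype.ext h)
    · exact Or.inr (Subtype.ext h)

open Cfsg.Agent.H455.Isolated in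
theorem zt_of_equiv {G : Type u} [Group G] [Finite G] (D : TData G) {S : Type*} [Group S] [Finite S] (e : ↥D.T ≃* S)
    (hiso : Isolated S 13) : ∃ M, ZT S M ∧ ¬ 13 ∣ M := by
  obtain ⟨z, hz1, hzz, hZ⟩ := zt_tdata D
  refine ⟨_, ZT.congr e hZ, fun h13 => ?_⟩
  have hisoT : Isolated ↥D.T 13 := hiso.of_injective e.toMonoidHom e.injective
  have hfp : Fact (Nat.Prime 13) := ⟨by norm_num⟩
  obtain ⟨x, hx⟩ := exists_prime_orderOf_dvd_card' (G := centralizer ({z} : Set ↥D.T)) 13 h13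
  have hxo : orderOf (x : ↥D.T) = 13 := by rw [Subgroup.orderOf_coe]; exact hx
  have hzo : orderOf z = 2 := orderOf_eq_prime (by rw [pow_two, hzz]) hz1
  have hxz : Commute (x : ↥D.T) z := mem_centralizer_singleton_iff.1 x.2
  have ho : orderOf ((x : ↥D.T) * z) = 13 * 2 := by
    rw [hxz.orderOf_mul_eq_mul_orderOf_of_coprime (by rw [hxo, hzo]; norm_num), hxo, hzo]
  exact hisoT 2 Nat.prime_two (by norm_num) _ ho

open Cfsg.Agent.H455.Isolated in
theorem zt_tits {S : Type u} [Group S] (h : Lie.IsoTits S) : ∃ M, ZT S M ∧ ¬ 13 ∣ M := by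
  obtain ⟨e⟩ := h
  have hfin : Finite Cfsg.Lie.TitsGroup := Nat.finite_of_card_ne_zero (by
    rw [H369.Ti.Facts.fs.card]; norm_num)
  have hfin' : Finite S := Finite.of_equiv _ e.symm.toEquiv
  have hiso : Isolated S 13 := H369.Ti.Facts.fs.iso.of_injective e.toMonoidHom e.injective
  obtain ⟨e'⟩ := Cfsg.Agent.TitsK.exists_equiv
  exact zt_of_equiv tdata (e.trans e').symm hiso

end Cfsg.Agent.H171.RV.TwoP
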