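import Cfsg.Agent.H171.RV.FactsB
import Cfsg.Agent.H171.RV.FactsC

/-!
# TEAM RV, R6: no `D_{2,p}`, second rows (helper171)
-/

set_option autoImplicit false

namespace Cfsg.Agent.H171.RV.NoTwo

open Cfsg TwoP

universe u

theorem no2_hs_7 {S : Type u} [Group S] [Finite S] (h : Spor.IsoHS S) :
    ¬ H571.DExt.Dom ({2, 7} : Set ℕ) S :=
  no2_of_zt (a := 9) (b := 12375) (zt_hs h) (by norm_num) ((NotCT.Orders.hs h).trans (by norm_num))
    (by decide +kernel) (by norm_num) (by norm_num) (by norm_num)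

theorem no2_hs_11 {S : Type u} [Group S] [Finite S] (h : Spor.IsoHS S) :
    ¬ H571.DExt.Dom ({2, 11} : Set ℕ) S :=
  no2_of_zt (a := 9) (b := 7875) (zt_hs h) (by norm_num) ((NotCT.Orders.hs h).trans (by norm_num))
    (by decide +kernel) (by norm_num) (by norm_num) (by norm_num)

theorem no2_he_17 {S : Type u} [Group S] [Finite S] (h : Spor.IsoHe S) :
    ¬ H571.DExt.Dom ({2, 17} : Set ℕ) S :=
  no2_of_zt (a := 10) (b := 231525) (zt_he h) (by norm_num) ((NotCT.Orders.he h).trans (by norm_num))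
    (by decide +kernel) (by norm_num) (by norm_num) (by norm_num)

theorem no2_on_11 {S : Type u} [Group S] [Finite S] (h : Spor.IsoON S) :
    ¬ H571.DExt.Dom ({2, 11} : Set ℕ) S :=
  no2_of_zt (a := 9) (b := 81820935) (zt_on h) (by norm_num) ((NotCT.Orders.on h).trans (by norm_num))
    (by decide +kernel) (by norm_num) (by norm_num) (by norm_num)

theorem no2_on_19 {S : Type u} [Group S] [Finite S] (h : Spor.IsoON S) :
    ¬ H571.DExt.Dom ({2, 19} : Set ℕ) S :=
  no2_of_zt (a := 9) (b := 47370015) (zt_on h) (by norm_num) ((NotCT.Orders.on h).trans (by norm_num))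
    (by decide +kernel) (by norm_num) (by norm_num) (by norm_num)

theorem no2_on_31 {S : Type u} [Group S] [Finite S] (h : Spor.IsoON S) :
    ¬ H571.DExt.Dom ({2, 31} : Set ℕ) S :=
  no2_of_zt (a := 9) (b := 29033235) (zt_on h) (by norm_num) ((NotCT.Orders.on h).trans (by norm_num))
    (by decide +kernel) (by norm_num) (by norm_num) (by norm_num)

theorem no2_tits_13 {S : Type u} [Group S] [Finite S] (h : Lie.IsoTits S) :
    ¬ H571.DExt.Dom ({2, 13} : Set ℕ) S := by
  obtain ⟨M, hZ, hM⟩ := zt_tits h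
  exact no2_of_zt (a := 11) (b := 675) hZ (by norm_num) ((NotCT.Orders.tits h).trans (by norm_num))
    (by decide +kernel) (by norm_num) (by norm_num) hM

end Cfsg.Agent.H171.RV.NoTwo
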