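import Cfsg.Agent.H555.RV.Count
import Cfsg.Agent.H812.SuzFive
import Cfsg.Agent.H933.TitsSep
import Cfsg.Agent.J2Type.FiveFus
import Cfsg.Agent.KFacts.J2.Facts
import Cfsg.Agent.NotCT.Orders

/-!
# TEAM RV, R6: no `D_{2,5}`: `J2`, `Suz`, the Tits group (helper171)

From the orders 300, 600, 1200 of the normalizers of the Sylow 5-subgroups.
-/

set_option autoImplicit false

namespace Cfsg.Agent.H171.RV.NoTwo

open Subgroup Cfsg Cfsg.Agent.H555.RV

universe u

theorem no2_j2_5 {S : Type u} [Group S] [Finite S] (h : Spor.IsoJ2 S) :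
    ¬ H571.DExt.Dom ({2, 5} : Set ℕ) S := by
  have h5 : Fact (Nat.Prime 5) := ⟨Nat.prime_five⟩
  obtain ⟨t, u, Q, v, ρ, D⟩ := KFacts.J2.Facts.exists_dat_of h
  obtain ⟨P⟩ : Nonempty (Sylow 5 S) := inferInstance
  have hN := (J2Type.FiveFus.sylow_five D.F P).2.2.1
  refine no2_of_count (p := 5) (a := 7) (b := 2) (m := 189) (d := 2) (by norm_num)
    ((NotCT.Orders.j2 h).trans (by norm_num)) (by norm_num) (by norm_num) P ?_ ?_ (by decide)
  · rw [hN]; norm_num
  · rw [hN]; norm_num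

theorem no2_suz_5 {S : Type u} [Group S] [Finite S] (h : Spor.IsoSuz S) :
    ¬ H571.DExt.Dom ({2, 5} : Set ℕ) S := by
  have h5 : Fact (Nat.Prime 5) := ⟨Nat.prime_five⟩
  obtain ⟨P⟩ : Nonempty (Sylow 5 S) := inferInstance
  have hN := (H812.SuzFive.main h P).2.2.1
  refine no2_of_count (p := 5) (a := 13) (b := 2) (m := 448345497600 / 2 ^ 13 / 25) (d := 3) (by norm_num)
    ((NotCT.Orders.suz h).trans (by norm_num)) (by norm_num) (by norm_num) P ?_ ?_ (by decide)
  · rw [hN]; norm_num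
  · rw [hN]; norm_num

theorem no2_tits_5 {S : Type u} [Group S] [Finite S] (h : Lie.IsoTits S) :
    ¬ H571.DExt.Dom ({2, 5} : Set ℕ) S := by
  have h5 : Fact (Nat.Prime 5) := ⟨Nat.prime_five⟩
  obtain ⟨P⟩ : Nonempty (Sylow 5 S) := inferInstance
  have hN := H933.TitsSep.card_five (H235.TitsRow.facts h) P
  refine no2_of_count (p := 5) (a := 11) (b := 2) (m := 351) (d := 4) (by norm_num)
    ((NotCT.Orders.tits h).trans (by norm_num)) (by norm_num) (by norm_num) P ?_ ?_ (by decide)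
  · rw [hN]; norm_num
  · rw [hN]; norm_num

end Cfsg.Agent.H171.RV.NoTwo
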