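import Cfsg.Agent.H171.RV.AsmBase
import Cfsg.Agent.H171.RV.NoTwoA
import Cfsg.Agent.H171.RV.NoTwoB
import Cfsg.Agent.H171.RV.NoTwoC
import Cfsg.Agent.H498.SporOut
import Cfsg.Agent.NotCT.Orders
import Cfsg.Agent.H982.PiJ
import Cfsg.Agent.H555.PiBS.HS
import Cfsg.Agent.H173.PiBS.He
import Cfsg.Agent.H809.PiBS.ON
import Cfsg.Agent.H422.PiSuz
import Cfsg.Agent.H327.PB.Tits
import Cfsg.Agent.H841.PiBS.Rows
import Cfsg.Agent.H841.PiBS.NoTwo
import Cfsg.Agent.H555.RV.HS
import Cfsg.Agent.H555.RV.He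
import Cfsg.Agent.H555.RV.ON
import Cfsg.Agent.H489.OutSpor

/-!
# TEAM RV, R6: `RowE` for `J2`, `HS`, `He`, `O'N`, `Suz`, `Fi22`, the Tits group (helper171)
-/

set_option autoImplicit false

namespace Cfsg.Agent.H171.RV.Asm

open Cfsg Cfsg.Agent.H571.RV Cfsg.Agent.H571.DExt Cfsg.Agent.H171.RV.SzHall

universe u

variable {S : Type u} [Group S] [Finite S] [hs : IsSimpleGroup S] {π : Set ℕ}

theorem index_le {Y : Type*} [Group Y] (e : S ≃* Y) (h : Nat.card (Out Y) = 2) :
    (MulAut.conj : S →* MulAut S).range.index ≤ 2 :=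
  H498.SporOut.le_two_of e le_rfl h

theorem rowE_j2 (h : Spor.IsoJ2 S) : RowE π S := by
  have hc := NotCT.Orders.j2 h
  have hout : (MulAut.conj : S →* MulAut S).range.index ≤ 2 := by
    obtain ⟨e⟩ := h
    exact index_le e S2066.result
  refine rowE_of_data hs hout (not_comm hc hs (by norm_num)) (fun h2 h3 hD => H982.PiJ.row_J2 h h2 h3 hD)
    (fun h3 => Sol.sol_of hc (Sol.szc_one (by norm_num) (by norm_num [szc]) (by norm_num [szc]) (by norm_num [szc]))
      (by norm_num) (by norm_num) h3) ?_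
  intro p hp h5 hpd
  rw [hc] at hpd
  have hm := mem_primes hp hpd [2, 3, 5, 7] (by norm_num) 21 (by norm_num)
  simp only [List.mem_cons, List.not_mem_nil, or_false] at hm
  rcases hm with rfl | rfl | rfl | rfl
  · omega
  · omega
  · exact NoTwo.no2_j2_5 h
  · exact NoTwo.no2_j2_7 h

theorem rowE_hs (h : Spor.IsoHS S) : RowE π S := by
  have hc := NotCT.Orders.hs h
  have hout : (MulAut.conj : S →* MulAut S).range.index ≤ 2 := by
    obtain ⟨e⟩ := h
    exact index_le e S2072.result
  refine rowE_of_data hs hout (not_comm hc hs (by norm_num)) (fun h2 h3 hD => H555.PiBS.HS.row_HS h h2 h3 hD)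
    (fun h3 => Sol.sol_of hc (Sol.szc_one (by norm_num) (by norm_num [szc]) (by norm_num [szc]) (by norm_num [szc]))
      (by norm_num) (by norm_num) h3) ?_
  intro p hp h5 hpd
  rw [hc] at hpd
  have hm := mem_primes hp hpd [2, 3, 5, 7, 11] (by norm_num) 21 (by norm_num)
  simp only [List.mem_cons, List.not_mem_nil, or_false] at hm
  rcases hm with rfl | rfl | rfl | rfl | rfl
  · omega
  · omega
  · exact H555.RV.no2_hs_5 h
  · exact NoTwo.no2_hs_7 h
  · exact NoTwo.no2_hs_11 h

theorem rowE_he (h : Spor.IsoHe S) : RowE π S := by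
  have hc := NotCT.Orders.he h
  have hout : (MulAut.conj : S →* MulAut S).range.index ≤ 2 := by
    obtain ⟨e⟩ := h
    exact index_le e S2075.result
  refine rowE_of_data hs hout (not_comm hc hs (by norm_num)) (fun h2 h3 hD => H173.PiBS.row_He h h2 h3 hD)
    (fun h3 => Sol.sol_of hc (Sol.szc_one (by norm_num) (by norm_num [szc]) (by norm_num [szc]) (by norm_num [szc]))
      (by norm_num) (by norm_num) h3) ?_
  intro p hp h5 hpd
  rw [hc] at hpd
  have hm := mem_primes hp hpd [2, 3, 5, 7, 17] (by norm_num) 21 (by norm_num)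
  simp only [List.mem_cons, List.not_mem_nil, or_false] at hm
  rcases hm with rfl | rfl | rfl | rfl | rfl
  · omega
  · omega
  · exact H555.RV.no2_he_5 h
  · exact H555.RV.no2_he_7 h
  · exact NoTwo.no2_he_17 h

theorem rowE_on (h : Spor.IsoON S) : RowE π S := by
  have hc := NotCT.Orders.on h
  have hout : (MulAut.conj : S →* MulAut S).range.index ≤ 2 := by
    obtain ⟨e⟩ := h
    exact index_le e S2078.result
  refine rowE_of_data hs hout (not_comm hc hs (by norm_num)) (fun h2 h3 hD => H809.PiBS.row_ON h h2 h3 hD)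
    (fun h3 => Sol.sol_of hc (Sol.szc_one (by norm_num) (by norm_num [szc]) (by norm_num [szc]) (by norm_num [szc]))
      (by norm_num) (by norm_num) h3) ?_
  intro p hp h5 hpd
  rw [hc] at hpd
  have hm := mem_primes hp hpd [2, 3, 5, 7, 11, 19, 31] (by norm_num) 21 (by norm_num)
  simp only [List.mem_cons, List.not_mem_nil, or_false] at hm
  rcases hm with rfl | rfl | rfl | rfl | rfl | rfl | rfl
  · omega
  · omega
  · exact H555.RV.no2_on_5 h
  · exact H555.RV.no2_on_7 h
  · exact NoTwo.no2_on_11 h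
  · exact NoTwo.no2_on_19 h
  · exact NoTwo.no2_on_31 h

theorem rowE_suz (h : Spor.IsoSuz S) : RowE π S := by
  have hc := NotCT.Orders.suz h
  have hout : (MulAut.conj : S →* MulAut S).range.index ≤ 2 := by
    obtain ⟨e⟩ := h
    exact index_le e S2074.result
  refine rowE_of_data hs hout (not_comm hc hs (by norm_num)) (fun h2 h3 hD => H422.PiSuz.row_suz h h2 h3 hD)
    (fun h3 => Sol.sol_suz h h3) ?_
  intro p hp h5 hpd
  rw [hc] at hpd
  have hm := mem_primes hp hpd [2, 3, 5, 7, 11, 13] (by norm_num) 21 (by norm_num)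
  simp only [List.mem_cons, List.not_mem_nil, or_false] at hm
  rcases hm with rfl | rfl | rfl | rfl | rfl | rfl
  · omega
  · omega
  · exact NoTwo.no2_suz_5 h
  · exact NoTwo.no2_suz_7 h
  · exact NoTwo.no2_suz_11 h
  · exact NoTwo.no2_suz_13 h

theorem rowE_fi22 (h : Spor.IsoFi22 S) : RowE π S := by
  have hc := NotCT.Orders.fi22 h
  have hout : (MulAut.conj : S →* MulAut S).range.index ≤ 2 := by
    obtain ⟨e⟩ := h
    exact index_le e S2079.result
  refine rowE_of_data hs hout (not_comm hc hs (by norm_num)) (fun h2 h3 hD => H841.PiBS.Rows.good_fi22 h2 h3 hc h hD)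
    (fun h3 => Sol.sol_fi22 h h3) ?_
  exact fun p hp h5 hpd => H841.PiBS.NoTwo.no2_fi22 h hp h5 hpd

theorem rowE_tits (h : Lie.IsoTits S) : RowE π S := by
  have hc := NotCT.Orders.tits h
  have hout : (MulAut.conj : S →* MulAut S).range.index ≤ 2 := H489.card_out_tits h
  refine rowE_of_data hs hout (not_comm hc hs (by norm_num)) (fun h2 h3 hD => H327.PB.row_Tits h h2 h3 hD)
    (fun h3 => Sol.sol_of hc (Sol.szc_one (by norm_num) (by norm_num [szc]) (by norm_num [szc]) (by norm_num [szc]))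
      (by norm_num) (by norm_num) h3) ?_
  intro p hp h5 hpd
  rw [hc] at hpd
  have hm := mem_primes hp hpd [2, 3, 5, 13] (by norm_num) 21 (by norm_num)
  simp only [List.mem_cons, List.not_mem_nil, or_false] at hm
  rcases hm with rfl | rfl | rfl | rfl
  · omega
  · omega
  · exact NoTwo.no2_tits_5 h
  · exact NoTwo.no2_tits_13 h

end Cfsg.Agent.H171.RV.Asm
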