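import Cfsg.Agent.H555.RV.Crit
import Cfsg.Agent.S0058
import Cfsg.Agent.H14.InvTwoA

/-!
# TEAM RV, R6: `¬ D_{2,p}` from an elementary abelian subgroup of order `p ^ 2` (helper171)

`KQ.elem'`, `no2_of_elem'`: only `2 ^ d ∤ |C(x)|` for `x` of order `p` is needed, `d` the order of 2 modulo `p`.
-/

set_option autoImplicit false

namespace Cfsg.Agent.H171.RV.Elem

open Subgroup Cfsg Cfsg.Agent.H571.DExt Cfsg.Agent.H988.CPi Cfsg.Agent.H171.Odd Cfsg.Agent.H555.PiBS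
open Cfsg.Agent.H555.RV
open scoped Pointwise

universe u

variable {S : Type u} [Group S]

theorem elem' [Finite S] {p a b d : ℕ} {K Q : Subgroup S} (h : KQ p a b K Q) (hp : p.Prime) (hp2 : p ≠ 2)
    {E : Subgroup S} (hE : E ≤ K) (hc : Nat.card E = p ^ 2) (hexp : ∀ x ∈ E, x ^ p = 1)
    (hd : ∀ k, 1 ≤ k → k < d → ¬ p ∣ 2 ^ k - 1)
    (hx : ∀ x ∈ E, x ≠ 1 → ¬ 2 ^ d ∣ Nat.card (centralizer {x})) : False := by
  have hfp : Fact p.Prime := ⟨hp⟩
  have hcom : ∀ x ∈ E, ∀ y ∈ E, x * y = y * x := fun x hx y hy =>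
    congrArg Subtype.val (IsPGroup.commutative_of_card_eq_prime_sq hc ⟨x, hx⟩ ⟨y, hy⟩)
  have hEm : IsMulCommutative E := ⟨⟨IsPGroup.commutative_of_card_eq_prime_sq hc⟩⟩
  have hncyc : ¬ IsCyclic E := by
    rintro ⟨g, hg⟩
    have h1 : Nat.card E = orderOf g := (orderOf_eq_card_of_forall_mem_zpowers hg).symm
    have h2 : orderOf g ∣ p := orderOf_dvd_of_pow_eq_one (Subtype.ext (hexp g g.2))
    rw [← h1, hc] at h2
    have h3 := Nat.le_of_dvd hp.pos h2
    nlinarith [hp.two_le]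
  have hEp : IsPGroup p E := IsPGroup.of_card hc
  -- `E` centralises `C_Q(z)`
  have h1 : ∀ z ∈ E, z ≠ 1 → Q ⊓ centralizer {z} ≤ centralizer (E : Set S) := by
    intro z hz hz1 w hw
    rw [mem_centralizer_iff]
    intro y hy
    set W : Subgroup S := Q ⊓ centralizer {z} with hW
    have hyW : y ∈ normalizer (W : Set S) := by
      apply mem_normalizer_fintype
      rintro w ⟨hw, hwc⟩
      refine ⟨(mem_normalizer_iff.1 (h.nrm (hE hy)) w).1 hw, ?_⟩
      show y * w * y⁻¹ ∈ centralizer {z}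
      rw [mem_centralizer_singleton_iff]
      have h5 : Commute w z := mem_centralizer_singleton_iff.1 hwc
      have h6 : Commute y z := hcom y hy z hz
      exact ((h6.mul_left h5).mul_left h6.inv_left).eq
    have h3 := fix_card hp (hexp y hy) W hyW
    obtain ⟨j, hj, hjW⟩ := h.card_Q hp hp2 (R := W) inf_le_left
    obtain ⟨i, hi, hiW⟩ := h.card_Q hp hp2 (R := W ⊓ centralizer {y}) (inf_le_left.trans inf_le_left)
    have hjd : j < d := by
      by_contra hcon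
      apply hx z hz hz1
      have h9 : Nat.card W ∣ Nat.card (centralizer {z}) := card_dvd_of_le inf_le_right
      rw [hjW] at h9
      exact (pow_dvd_pow 2 (by omega)).trans h9
    have hij : i ≤ j := by
      have h4 : Nat.card (W ⊓ centralizer {y} : Subgroup S) ∣ Nat.card W := card_dvd_of_le inf_le_left
      rw [hiW, hjW] at h4
      exact (Nat.pow_dvd_pow_iff_le_right (by norm_num)).1 h4
    have hij' : i = j := by
      by_contra hne
      rw [hjW, hiW] at h3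
      have h5 : p ∣ 2 ^ j - 2 ^ i := (Nat.modEq_iff_dvd' (Nat.pow_le_pow_right (by norm_num) hij)).1 h3.symm
      have h6 : 2 ^ j - 2 ^ i = 2 ^ i * (2 ^ (j - i) - 1) := by
        rw [Nat.mul_sub, ← pow_add, mul_one]
        congr 2
        omega
      rw [h6] at h5
      rcases hp.dvd_mul.1 h5 with h7 | h7
      · exact hp2 ((Nat.prime_dvd_prime_iff_eq hp Nat.prime_two).1 (hp.dvd_of_dvd_pow h7))
      · exact hd (j - i) (by omega) (by omega) h7
    have h7 : (W ⊓ centralizer {y} : Subgroup S) = W := by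
      apply eq_of_le_of_card_ge inf_le_left
      rw [hjW, hiW, hij']
    have h8 : w ∈ (W ⊓ centralizer {y} : Subgroup S) := by rw [h7]; exact hw
    exact (mem_centralizer_singleton_iff.1 h8.2).symm
  have hcop : (Nat.card E).Coprime (Nat.card Q) := by
    obtain ⟨j, -, hj⟩ := h.card_Q hp hp2 (R := Q) le_rfl
    rw [hc, hj]
    exact Nat.Coprime.pow _ _ ((Nat.coprime_primes hp Nat.prime_two).2 hp2)
  have h2 : Q ≤ centralizer (E : Set S) := by
    rw [← Cfsg.Agent.S0058.result E Q hncyc (hE.trans h.nrm) hcop]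
    refine iSup₂_le fun z hz => h1 z hz.1 hz.2
  have h3 : E ≤ Q := by
    intro x hx
    refine h.cen ⟨hE hx, ?_⟩
    show x ∈ centralizer (Q : Set S)
    rw [mem_centralizer_iff]
    intro q hq
    exact (mem_centralizer_iff.1 (h2 hq) x hx).symm
  have h4 : Nat.card E ∣ Nat.card Q := card_dvd_of_le h3
  have h5 : Nat.card E = 1 := Nat.Coprime.eq_one_of_dvd hcop h4
  rw [hc] at h5
  have := Nat.one_lt_pow (n := 2) (by norm_num) hp.one_lt
  omega

theorem no2_of_elem' [Finite S] {p a b m d : ℕ} (hp : p.Prime) (hp2 : p ≠ 2) (hS : Nat.card S = 2 ^ a * p ^ b * m)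
    (h2 : ¬ 2 ∣ m) (hm : ¬ p ∣ m) (hI : Inv1 2 p S) {E : Subgroup S} (hc : Nat.card E = p ^ 2)
    (hexp : ∀ x ∈ E, x ^ p = 1) (hd : ∀ k, 1 ≤ k → k < d → ¬ p ∣ 2 ^ k - 1)
    (hx : ∀ x : S, orderOf x = p → ¬ 2 ^ d ∣ Nat.card (centralizer {x})) : ¬ Dom ({2, p} : Set ℕ) S := by
  intro hD
  have hfp : Fact p.Prime := ⟨hp⟩
  obtain ⟨K, Q, h⟩ := exists_KQ hp hp2 hS h2 hm hI hD
  obtain ⟨g, hg⟩ := h.conj_le (piN_of_pgroup hp (IsPGroup.of_card hc))
  have hc' : Nat.card (E.map (MulAut.conj g).toMonoidHom) = p ^ 2 := by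
    rw [card_map_of_injective (MulAut.conj g).injective, hc]
  have hexp' : ∀ x ∈ E.map (MulAut.conj g).toMonoidHom, x ^ p = 1 := by
    rintro _ ⟨x, hx, rfl⟩
    rw [← map_pow, hexp x hx, map_one]
  exact elem' h hp hp2 hg hc' hexp' hd (fun x hx1 hx2 => hx x (orderOf_eq_prime (hexp' x hx1) hx2))

/-- a subgroup of order 25 of exponent 5 -/
theorem exists_E [Finite S] (h25 : 25 ∣ Nat.card S) (hno : ∀ g : S, orderOf g ≠ 25) :
    ∃ E : Subgroup S, Nat.card E = 5 ^ 2 ∧ ∀ x ∈ E, x ^ 5 = 1 := by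
  have hf : Fact (Nat.Prime 5) := ⟨Nat.prime_five⟩
  obtain ⟨E, hE⟩ := Sylow.exists_subgroup_card_pow_prime 5 (n := 2) (G := S) (by simpa using h25)
  refine ⟨E, hE, fun x hx => ?_⟩
  have h1 : orderOf (⟨x, hx⟩ : E) ∣ 5 ^ 2 := hE ▸ orderOf_dvd_natCard _
  rw [orderOf_mk] at h1
  obtain ⟨k, hk, hk2⟩ := (Nat.dvd_prime_pow Nat.prime_five).1 h1
  have hk1 : k ≤ 1 := by
    by_contra hcon
    have : k = 2 := by omega
    subst this
    exact hno x (by rw [hk2]; norm_num)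
  exact orderOf_dvd_iff_pow_eq_one.1 (by rw [hk2]; exact (pow_dvd_pow 5 hk1).trans (by norm_num))

/-- **the case `p = 5`, `25 ∥ |S|`** -/
theorem no2_five [Finite S] {a m : ℕ} (ha : 7 ≤ a) (hS : Nat.card S = 2 ^ a * 5 ^ 2 * m) (h2 : ¬ 2 ∣ m) (hm : ¬ 5 ∣ m)
    (hno : ∀ g : S, orderOf g ≠ 25) (hx : ∀ x : S, orderOf x = 5 → ¬ 2 ^ 4 ∣ Nat.card (centralizer ({x} : Set S))) :
    ¬ Dom ({2, 5} : Set ℕ) S := by
  have h25 : 25 ∣ Nat.card S := by rw [hS]; exact ⟨2 ^ a * m, by ring⟩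
  obtain ⟨E, hc, hexp⟩ := exists_E h25 hno
  have h5 : ¬ 5 ^ (2 + 1) ∣ Nat.card S := by
    rw [hS]
    intro h
    have h6 : 5 ^ 2 * 5 ∣ 5 ^ 2 * (2 ^ a * m) := by
      rw [show 5 ^ 2 * (2 ^ a * m) = 2 ^ a * 5 ^ 2 * m by ring]
      exact h
    have h7 := Nat.dvd_of_mul_dvd_mul_left (by norm_num) h6
    rcases Nat.prime_five.dvd_mul.1 h7 with h8 | h8
    · have := (Nat.prime_dvd_prime_iff_eq Nat.prime_five Nat.prime_two).1 (Nat.prime_five.dvd_of_dvd_pow h8)
      omega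
    · exact hm h8
  have hI : Inv1 2 5 S := by
    refine inv1_of_cent (a := 4) (b := 2) (w := 3) Nat.prime_two Nat.prime_five ?_ ?_
      (fun k h1 h2 => H14.InvTwoA.pows_five (by norm_num) h1 h2) (fun y hy hd => hx y hy hd)
    · rw [hS]
      exact ((pow_dvd_pow 2 (by omega)).mul_right _).mul_right _
    · exact h5
  exact no2_of_elem' (p := 5) (d := 4) Nat.prime_five (by norm_num) hS h2 hm hI hc hexp ord_five hx

end Cfsg.Agent.H171.RV.Elem
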