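import Cfsg.Agent.H171.RV.FactsA
import Cfsg.Agent.CTwoTab.HS
import Cfsg.Agent.H904.HSCent
import Cfsg.Agent.CTwoTab.He
import Cfsg.Agent.KFacts.ON.Qs
import Cfsg.Agent.KFacts.ON.Cent

/-!
# TEAM RV, R6: `ZT` (unique central involution of the Sylow 2-subgroup), rows `HS`, `He`, `O'N` (helper171)
-/

set_option autoImplicit false
set_option maxRecDepth 100000

namespace Cfsg.Agent.H171.RV.TwoP

open Cfsg Cfsg.Spor Subgroup

universe u

section HS

open Cfsg.Agent.KFacts.HS Cfsg.Agent.KFacts.HS.DFour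

theorem zt_hs {S : Type u} [Group S] [Finite S] (h : Spor.IsoHS S) : ZT S 7680 := by
  obtain ⟨D⟩ := KFacts.HS.exists_mod h
  refine zt_of_cent (R := RL D) (z := zA D) (RL_pGroup D) (zA_ne D) (zA_sq D) ?_ ?_
  · intro x hxx hx
    rcases cent_RL D (hx _ (zA_mem_RL D)).symm (fun r hr => (hx r hr).symm) with h | h | h
    · exact Or.inl h
    · exact Or.inr h
    · exact absurd (h.symm.trans hxx) (zA_ne D)
  · exact dvd_of_eq (H904.HSCent.card_zA D)

end HS

section He

theorem zt_he {S : Type u} [Group S] (h : Spor.IsoHe S) : ZT S 21504 := by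
  obtain ⟨e⟩ := h
  have hfin := Cfsg.Agent.KFacts.He.Hyp.finHe
  obtain ⟨R, E, E', W⟩ := CTwoTab.He.sheet_z
  refine ZT.congr e.symm (zt_of_cent (R := R) (z := CTwoTab.He.z) ?_ W.z1 W.zz ?_ ?_)
  · rw [IsPGroup.iff_card]
    exact ⟨7, by rw [W.cardR]; norm_num⟩
  · intro x _ hx
    refine W.cR x (CTwoTab.He.mem_range ?_) (fun r hr => (hx r hr).symm)
    rw [mem_centralizer_singleton_iff]
    exact (hx _ (W.h1.ER W.h1.zE)).symm
  · exact dvd_of_eq KFacts.He.Classes.card_centralizer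

end He

section ON

open Cfsg.Spor (ON)
open Cfsg.Agent.SporadicB.ON45Word (on)
open Cfsg.Agent.KFacts.ON.Struct (mem_K0)
open Cfsg.Agent.KFacts.ON.Cent (hON)
open Cfsg.Agent.ONType Cfsg.Agent.ONType.TupRow
open Cfsg.Agent.SporadicRecognition.CosetCert (ev ev_nil ev_cons ev_append)

theorem s_a : TupS.s * on .a ≠ on .a * TupS.s := by
  have h0 : neK (TupS.sw ++ [4]) (4 :: TupS.sw) = true := by decide +kernel
  intro h
  apply neK_spec h0
  rw [ev_append, ev_cons, ev_cons, ev_nil, mul_one]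
  exact h

theorem f_ne : (on .f : ON) ≠ 1 := by
  have h0 : neJ [7] [] = true := by decide +kernel
  intro h
  apply neJ_spec h0
  rw [ev_cons, ev_nil, mul_one]
  exact h

theorem ff : (on .f : ON) * on .f = 1 := by
  have h0 : eqJ [7, 7] [] = true := by decide +kernel
  have h1 := eqJ_spec hON.1 h0
  rw [ev_cons, ev_cons, ev_nil, mul_one] at h1
  exact h1

theorem zt_on' : ZT ON 161280 := by
  have hfin : Finite ON := KFacts.ON.Cent.finite_ON
  refine zt_of_cent (R := TupS.S hON.1) (z := on .f)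
    (IsPGroup.of_card (n := 9) (KFacts.ON.Qs.card_S.trans (by norm_num))) f_ne ff ?_
    (dvd_of_eq KFacts.ON.Cent.card_cent)
  intro x _ hx
  have hT := TupS.T0_le_S hON.1
  have hxf := (hx _ (hT (TupT0.f_mem hON.1))).symm
  have hxa := (hx _ (hT (TupT0.a_mem hON.1))).symm
  have hx0 : x ∈ TupT0.T0 := TupK.mem_T0 hON.1 (mem_K0.2 hxf) hxa
  have hs : TupS.s ∈ TupS.S hON.1 := TupS.mem_S.2 (Or.inr (by rw [TupS.ss hON.1]; exact TupT0.T0.one_mem))
  have hxs := hx _ hs
  have hsf : TupS.s * on .f = on .f * TupS.s := mem_K0.1 TupS.s_mem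
  obtain ⟨w, hw, hxw⟩ := TupT0.comm_cd hON.1 hx0 (hx _ (hT TupT0.c_mem)).symm (hx _ (hT TupT0.d_mem)).symm
  simp only [TupT0.exV, List.mem_cons, List.not_mem_nil, or_false] at hw
  rcases hw with rfl | rfl | rfl | rfl
  · left; rw [hxw, ev_nil]
  · exfalso
    rw [TupT0.gg_eq hON.1] at hxw
    apply s_a
    rw [hxw] at hxs
    have h1 : TupS.s * on .a * on .f = on .a * TupS.s * on .f := by
      rw [mul_assoc, hxs, mul_assoc, mul_assoc, hsf]
    exact mul_right_cancel h1
  · exfalso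
    rw [TupT0.a_eq hON.1] at hxw
    rw [hxw] at hxs
    exact s_a hxs
  · right
    rw [hxw, TupT0.f_eq hON.1]

theorem zt_on {S : Type u} [Group S] (h : Spor.IsoON S) : ZT S 161280 := by
  obtain ⟨e⟩ := h
  exact ZT.congr e.symm zt_on'

end ON

end Cfsg.Agent.H171.RV.TwoP
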