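import Cfsg.Agent.H571.RV.Pred
import Cfsg.Agent.H543.PiBS.Gen
import Cfsg.Agent.Solvable.Hall
import Cfsg.Agent.S4350

/-!
# TEAM RV, R6: simple groups with `|Out| ≤ 2` (helper171)

* `rowN_of_index` : `RowN`;
* `rowE_of_index` : `RowE` if `Dom π S` implies that `S` is a `π`-group or `2` is the only prime of `π` dividing `|S|`;
* `dom_sub` : `Dom σ S` from `Dom π S`, `σ ⊆ π`, if a Hall `π`-subgroup is soluble;
* `rowE_of_no2` : `RowE` from the absence of `D_{2,p}`.
-/

set_option autoImplicit false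
set_option linter.unusedSectionVars false

namespace Cfsg.Agent.H171.RV

open Subgroup Cfsg Cfsg.Agent.H988.CPi Cfsg.Agent.H571.DExt Cfsg.Agent.H571.RV
open scoped Pointwise

universe u

variable {π : Set ℕ} {S : Type u} [Group S] [Finite S]

theorem index_cases (h : (inn S).index ≤ 2) : (inn S).index = 1 ∨ (inn S).index = 2 := by
  have h0 : (inn S).index ≠ 0 := Subgroup.index_ne_zero_of_finite
  omega

/-- **`RowN` for `|Out S| ≤ 2`.** -/
theorem rowN_of_index (h : (inn S).index ≤ 2) : RowN π S := by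
  by_cases h2 : 2 ∈ π
  · refine rowN_of_out_pi ?_
    intro p hp hd
    rcases index_cases h with h1 | h1
    · rw [h1] at hd
      exact absurd (Nat.dvd_one.mp hd) hp.one_lt.ne'
    · rw [h1] at hd
      rwa [(Nat.prime_dvd_prime_iff_eq hp Nat.prime_two).mp hd]
  · intro hDB
    obtain ⟨L, hL, -⟩ := hDB.dom ⊥ (by
      intro p hp hd
      rw [Subgroup.card_bot] at hd
      exact absurd (Nat.dvd_one.mp hd) hp.one_lt.ne')
    refine ⟨⟨L, hL⟩, fun H K hH hK => ?_⟩
    obtain ⟨g, hg⟩ := Cfsg.Agent.S4350.result π h2 H K hH hK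
    exact ⟨g, by rw [hg, conj_eq]⟩

/-! ### `RowE` -/

theorem conj_injective (hc : center S = ⊥) : Function.Injective (MulAut.conj : S →* MulAut S) := by
  rw [← MonoidHom.ker_eq_bot_iff, eq_bot_iff, ← hc]
  intro x h
  rw [MonoidHom.mem_ker] at h
  rw [mem_center_iff]
  intro y
  have h2 : x * y * x⁻¹ = y := DFunLike.congr_fun h y
  calc y * x = x * y * x⁻¹ * x := by rw [h2]
    _ = x * y := by group

/-- the subgroup of `S` which corresponds to the inner part -/
theorem card_comap (hc : center S = ⊥) (P : Subgroup (MulAut S)) :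
    Nat.card (P.comap (MulAut.conj : S →* MulAut S)) ∣ Nat.card P := by
  have h1 : (P.comap (MulAut.conj : S →* MulAut S)).map (MulAut.conj : S →* MulAut S) ≤ P :=
    Subgroup.map_comap_le _ _
  have h2 := Subgroup.card_dvd_of_le h1
  rwa [Subgroup.card_map_of_injective (conj_injective hc)] at h2

theorem map_conj_of_mem {H : Subgroup S} {s : S} (hs : s ∈ H) : H.map (MulAut.conj s).toMonoidHom = H :=
  Cfsg.Agent.H543.PiBS.map_conj_self hs

/-- inner `π`-subgroups of `Aut S` -/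
theorem exists_of_inner (hc : center S = ⊥) (hD : Dom π S) {P : Subgroup (MulAut S)} (hP : PiN π (Nat.card P))
    (hin : P ≤ inn S) : ∃ H : Subgroup S, IsPiHall π H ∧ P ≤ stab H := by
  obtain ⟨H, hH, hle⟩ := Dom.pi_le hD (P.comap (MulAut.conj : S →* MulAut S)) (hP.of_dvd (card_comap hc P))
  refine ⟨H, hH, fun α hα => ?_⟩
  obtain ⟨s, rfl⟩ := hin hα
  exact map_conj_of_mem (hle hα)

theorem sq_mem_inn (h : (inn S).index ≤ 2) (α : MulAut S) : α ^ 2 ∈ inn S := by
  rcases index_cases h with h1 | h1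
  · rw [Subgroup.index_eq_one.mp h1]; trivial
  · have h2 := Subgroup.pow_index_mem (inn S) α
    rwa [h1] at h2

theorem rowE_of_two_notin (hc : center S = ⊥) (h : (inn S).index ≤ 2) (h2 : 2 ∉ π) : RowE π S := by
  intro hD P hP
  refine exists_of_inner hc hD hP fun α hα => ?_
  have h3 : ¬ 2 ∣ orderOf α := by
    intro hd
    refine h2 (hP 2 Nat.prime_two (hd.trans ?_))
    have := orderOf_dvd_natCard (⟨α, hα⟩ : P)
    rwa [Subgroup.orderOf_mk] at this
  have hodd : Nat.Coprime (orderOf α) 2 := (Nat.Prime.coprime_iff_not_dvd Nat.prime_two).mpr h3 |>.symm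
  obtain ⟨m, hm⟩ := exists_pow_eq_self_of_coprime (x := α) (n := 2) hodd.symm
  rw [← hm]
  exact Subgroup.pow_mem _ (sq_mem_inn h α) m

theorem rowE_of_inner (hc : center S = ⊥) (h : (inn S).index = 1) : RowE π S := fun hD P hP =>
  exists_of_inner hc hD hP (by rw [Subgroup.index_eq_one.mp h]; exact le_top)

/-- `S` a `π`-group -/
theorem rowE_of_piGrp (h : PiGrp π S) (P : Subgroup (MulAut S)) : ∃ H : Subgroup S, IsPiHall π H ∧ P ≤ stab H := by
  refine ⟨⊤, h.hall, fun α _ => ?_⟩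
  rw [mem_stab]
  exact Subgroup.map_top_of_surjective _ (α : S ≃* S).surjective

/-- `2` the only prime -/
theorem rowE_of_two (hc : center S = ⊥) (h : (inn S).index ≤ 2) (h2 : 2 ∈ π)
    (hone : ∀ p : ℕ, p.Prime → p ∈ π → p ∣ Nat.card S → p = 2) {P : Subgroup (MulAut S)}
    (hP : PiN π (Nat.card P)) : ∃ H : Subgroup S, IsPiHall π H ∧ P ≤ stab H := by
  have hF : Fact (Nat.Prime 2) := ⟨Nat.prime_two⟩
  have hP2 : IsPGroup 2 P := by
    rw [IsPGroup.iff_orderOf]
    intro α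
    have h1 : ∀ p : ℕ, p.Prime → p ∣ orderOf α → p = 2 := by
      intro p hp hd
      by_contra hne
      have hpπ : p ∈ π := hP p hp (hd.trans (orderOf_dvd_natCard α))
      have hd2 : p ∣ orderOf ((α : MulAut S) ^ 2) := by
        rw [orderOf_pow, Subgroup.orderOf_coe]
        have hg : Nat.gcd (orderOf α) 2 ∣ 2 := Nat.gcd_dvd_right _ _
        have hcop : Nat.Coprime p (Nat.gcd (orderOf α) 2) :=
          Nat.Coprime.coprime_dvd_right hg ((Nat.coprime_primes hp Nat.prime_two).mpr hne)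
        refine hcop.dvd_of_dvd_mul_right ?_
        rw [Nat.div_mul_cancel (Nat.gcd_dvd_left _ _)]
        exact hd
      obtain ⟨s, hs⟩ := sq_mem_inn h (α : MulAut S)
      rw [← hs, orderOf_injective _ (conj_injective hc)] at hd2
      exact hne (hone p hp hpπ (hd2.trans (orderOf_dvd_natCard s)))
    obtain ⟨k, hk⟩ : ∃ k, orderOf α = 2 ^ k := by
      refine ⟨(orderOf α).primeFactorsList.length, ?_⟩
      exact Nat.eq_prime_pow_of_unique_prime_dvd (orderOf_pos α).ne' fun {d} hd hdd => h1 d hd hdd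
    exact ⟨k, hk⟩
  -- action on the Sylow 2-subgroups
  let act : MulAction P (Sylow 2 S) := MulAction.compHom _ P.subtype
  obtain ⟨Q⟩ : Nonempty (Sylow 2 S) := inferInstance
  have hodd : ¬ 2 ∣ Nat.card (Sylow 2 S) := by
    intro hd
    have h3 := card_sylow_modEq_one 2 S
    have h4 : Nat.card (Sylow 2 S) % 2 = 1 % 2 := h3
    omega
  obtain ⟨R, hR⟩ := hP2.nonempty_fixed_point_of_prime_not_dvd_card (α := Sylow 2 S) hodd
  refine ⟨(R : Subgroup S), ⟨?_, ?_⟩, fun α hα => ?_⟩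
  · intro p hp hd
    obtain ⟨k, hk⟩ := R.isPGroup'.exists_card_eq
    rw [hk] at hd
    rwa [(Nat.prime_dvd_prime_iff_eq hp Nat.prime_two).mp (hp.dvd_of_dvd_pow hd)]
  · intro p hp hpπ hd
    have hp2 := hone p hp hpπ (hd.trans (Subgroup.index_dvd_card _))
    subst hp2
    exact R.not_dvd_index hd
  · rw [mem_stab]
    have h5 : (⟨α, hα⟩ : P) • R = R := hR ⟨α, hα⟩
    have h6 : (α : MulAut S) • R = R := h5
    have h7 := congrArg (fun X : Sylow 2 S => (X : Subgroup S)) h6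
    exact h7

/-- **`RowE` for `|Out S| ≤ 2`** -/
theorem rowE_of_index (hc : center S = ⊥) (h : (inn S).index ≤ 2)
    (key : 2 ∈ π → Dom π S → PiGrp π S ∨ ∀ p : ℕ, p.Prime → p ∈ π → p ∣ Nat.card S → p = 2) : RowE π S := by
  by_cases h2 : 2 ∈ π
  · intro hD P hP
    rcases key h2 hD with h3 | h3
    · exact rowE_of_piGrp h3 P
    · exact rowE_of_two hc h h2 h3 hP
  · exact rowE_of_two_notin hc h h2

/-! ### `D_σ` for `σ ⊆ π` -/

theorem exists_split (σ : Set ℕ) {n : ℕ} (hn : n ≠ 0) : ∃ a b : ℕ, n = a * b ∧ PiN σ a ∧ PiN' σ b := by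
  classical
  induction n using Nat.recOnMul with
  | zero => exact absurd rfl hn
  | one =>
    refine ⟨1, 1, rfl, ?_, ?_⟩
    · intro p hp hd; exact absurd (Nat.dvd_one.mp hd) hp.one_lt.ne'
    · intro p hp _ hd; exact hp.one_lt.ne' (Nat.dvd_one.mp hd)
  | prime p hp =>
    by_cases h : p ∈ σ
    · refine ⟨p, 1, (mul_one p).symm, ?_, ?_⟩
      · intro q hq hd; rwa [(Nat.prime_dvd_prime_iff_eq hq hp).mp hd]
      · intro q hq _ hd; exact hq.one_lt.ne' (Nat.dvd_one.mp hd)
    · refine ⟨1, p, (one_mul p).symm, ?_, ?_⟩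
      · intro q hq hd; exact absurd (Nat.dvd_one.mp hd) hq.one_lt.ne'
      · intro q hq hqσ hd
        rw [(Nat.prime_dvd_prime_iff_eq hq hp).mp hd] at hqσ
        exact h hqσ
  | mul m n ihm ihn =>
    have hm : m ≠ 0 := fun h => hn (by rw [h, zero_mul])
    have hn' : n ≠ 0 := fun h => hn (by rw [h, mul_zero])
    obtain ⟨a, b, h1, h2, h3⟩ := ihm hm
    obtain ⟨c, d, h4, h5, h6⟩ := ihn hn'
    exact ⟨a * c, b * d, by rw [h1, h4]; ring, h2.mul h5, h3.mul h6⟩

/-- **`D_σ` from `D_π` with a soluble Hall subgroup** -/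
theorem dom_sub {σ : Set ℕ} (hσ : σ ⊆ π) (h : Dom π S)
    (hs : ∀ H : Subgroup S, IsPiHall π H → Group.IsSolvable H) : Dom σ S := by
  obtain ⟨H, hH, hdom⟩ := h
  have hsol := hs H hH
  obtain ⟨a, b, hab, ha, hb⟩ := exists_split σ (Nat.card_pos (α := H)).ne'
  have hcop : a.Coprime b := ha.coprime hb
  obtain ⟨L, hL⟩ := Cfsg.Agent.Solvable.Hall.hall_exists a b hab hcop
  refine ⟨L.map H.subtype, ⟨?_, ?_⟩, ?_⟩
  · intro p hp hd
    rw [Subgroup.card_map_of_injective H.subtype_injective, hL] at hd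
    exact ha p hp hd
  · have hidx : (L.map H.subtype).index = L.index * H.index := Subgroup.index_map_subtype L
    have hLi : L.index = b := by
      have h1 := Subgroup.card_mul_index L
      rw [hL, hab] at h1
      exact Nat.eq_of_mul_eq_mul_left (Nat.pos_of_ne_zero fun h0 => by
        rw [h0, zero_mul] at hab
        exact (Nat.card_pos (α := H)).ne' hab) h1
    intro p hp hpσ hd
    rw [hidx, hLi] at hd
    rcases (hp.dvd_mul).1 hd with h1 | h1
    · exact hb p hp hpσ h1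
    · exact hH.2 p hp (hσ hpσ) h1
  · intro K hK
    obtain ⟨g, hg⟩ := hdom K (fun p hp hd => hσ (hK p hp hd))
    have h1 : MulAut.conj g⁻¹ • K ≤ H := by
      intro x hx
      obtain ⟨k, hk, rfl⟩ := hx
      obtain ⟨m, hm, hmk⟩ := hg hk
      have : (MulAut.conj g⁻¹) k = m := by
        rw [← hmk]
        show g⁻¹ * (g * m * g⁻¹) * (g⁻¹)⁻¹ = m
        group
      show (MulAut.conj g⁻¹) k ∈ H
      rw [this]; exact hm
    have hcard : Nat.card (MulAut.conj g⁻¹ • K : Subgroup S) = Nat.card K :=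
      (Nat.card_congr (Subgroup.equivSMul (MulAut.conj g⁻¹) K).toEquiv).symm
    set K' : Subgroup H := (MulAut.conj g⁻¹ • K).subgroupOf H with hK'
    have hcardK' : Nat.card K' = Nat.card K := by
      rw [hK', Nat.card_congr (Subgroup.subgroupOfEquivOfLe h1).toEquiv, hcard]
    have hcopK : (Nat.card K').Coprime b := by
      rw [hcardK']
      exact PiN.coprime (π := σ) hK hb
    obtain ⟨m, hm⟩ := Cfsg.Agent.Solvable.Hall.hall_conj_le a b hab hcop L K' hL hcopK
    refine ⟨g * (m : S)⁻¹, ?_⟩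
    intro k hk
    have hk1 : g⁻¹ * k * g ∈ H := by
      have := h1 ⟨k, hk, rfl⟩
      simpa using this
    have hk2 : (⟨g⁻¹ * k * g, hk1⟩ : H) ∈ K' := by
      rw [hK', mem_subgroupOf]
      exact ⟨k, hk, by simp⟩
    have hk3 : m * ⟨g⁻¹ * k * g, hk1⟩ * m⁻¹ ∈ L := hm ⟨_, hk2, rfl⟩
    refine ⟨(m : S) * (g⁻¹ * k * g) * (m : S)⁻¹, ⟨_, hk3, rfl⟩, ?_⟩
    show g * (m : S)⁻¹ * ((m : S) * (g⁻¹ * k * g) * (m : S)⁻¹) * (g * (m : S)⁻¹)⁻¹ = k
    group

/-- **`RowE` from the absence of `D_{2,p}`.** -/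
theorem rowE_of_no2 (hc : center S = ⊥) (h : (inn S).index ≤ 2)
    (hsix : 2 ∈ π → 3 ∈ π → Dom π S → PiGrp π S)
    (hsol : 2 ∈ π → 3 ∉ π → Dom π S → ∀ H : Subgroup S, IsPiHall π H → Group.IsSolvable H)
    (no2 : ∀ p : ℕ, p.Prime → 5 ≤ p → p ∣ Nat.card S → ¬ Dom ({2, p} : Set ℕ) S) : RowE π S := by
  refine rowE_of_index hc h fun h2 hD => ?_
  by_cases h3 : 3 ∈ π
  · exact Or.inl (hsix h2 h3 hD)
  · right
    intro p hp hpπ hpS
    by_contra hp2
    have hp3 : p ≠ 3 := fun h => h3 (h ▸ hpπ)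
    have h5 : 5 ≤ p := by
      have := hp.two_le
      have h4 : p ≠ 4 := by rintro rfl; revert hp; norm_num
      omega
    refine no2 p hp h5 hpS (dom_sub ?_ hD (hsol h2 h3 hD))
    intro q hq
    rcases hq with rfl | hq
    · exact h2
    · rw [Set.mem_singleton_iff] at hq
      rw [hq]; exact hpπ

end Cfsg.Agent.H171.RV
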