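import Cfsg.Agent.H171.RV.AsmOne
import Cfsg.Agent.H171.RV.AsmTwo
import Cfsg.Agent.H171.RV.AsmThree
import Cfsg.Agent.H171.RV.AsmFour
import Cfsg.Agent.H164.RV.Alt
import Cfsg.Agent.H808.RV.Iso

/-!
# TEAM RV, R6: `RowN` and `RowE` for the sporadic groups and the Tits group (helper171)

* `rowE_spor`, `rows_spor` : the sporadic groups and the Tits group;
* `rows_other` : with the alternating groups (helper164).
-/

set_option autoImplicit false

namespace Cfsg.Agent.H171.RV.R6

open Cfsg Cfsg.Agent.H571.RV Cfsg.Agent.H571.DExt Cfsg.Agent.H171.RV.Asm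

universe u

variable {S : Type u} [Group S] [Finite S] [hs : IsSimpleGroup S] {π : Set ℕ}

theorem rowE_spor (h : IsSporadicGroup S) : RowE π S := by
  rcases h with h | h | h | h | h | h | h | h | h | h | h | h | h | h | h | h | h | h | h | h | h | h | h | h | h | h
  · exact rowE_m11 h
  · exact rowE_m12 h
  · exact rowE_m22 h
  · exact rowE_m23 h
  · exact rowE_m24 h
  · exact rowE_j1 h
  · exact rowE_j2 h
  · exact rowE_j3 h
  · exact rowE_j4 h
  · exact rowE_co1 h
  · exact rowE_co2 h
  · exact rowE_co3 h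
  · exact rowE_mcl h
  · exact rowE_hs h
  · exact rowE_suz h
  · exact rowE_he h
  · exact rowE_ru h
  · exact rowE_on h
  · exact rowE_ly h
  · exact rowE_fi22 h
  · exact rowE_fi23 h
  · exact rowE_fi24 h
  · exact rowE_hn h
  · exact rowE_th h
  · exact rowE_b h
  · exact rowE_m h

/-- **R6** -/
theorem rows_spor (h : Lie.IsoTits S ∨ IsSporadicGroup S) : RowN π S ∧ RowE π S := by
  rcases h with h | h
  · exact ⟨rowN_of_index (H489.card_out_tits h), rowE_tits h⟩
  · exact ⟨rowN_of_index (H498.SporOut.index_le_two h), rowE_spor h⟩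

/-- **R6 and R7** -/
theorem rows_other (h : IsAlternating S ∨ Lie.IsoTits S ∨ IsSporadicGroup S) : RowN π S ∧ RowE π S := by
  rcases h with ⟨n, hn, ⟨e⟩⟩ | h
  · exact ⟨H808.RV.RowN.congr e.symm H164.RVAlt.rowN_alt, H808.RV.RowE.congr e.symm (H164.RVAlt.rowE_alt hn)⟩
  · exact rows_spor h

end Cfsg.Agent.H171.RV.R6
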